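import Groth.Agent.H69.Shrink.Gen
import Groth.Agent.H21.Devissage.BaseChange
import Groth.Agent.Lib.RG.Fibres
import Mathlib.RingTheory.Smooth.Flat
import Mathlib.RingTheory.RingHom.Smooth

/-!
# Base change of complete dévissages

The filler of the new data beyond the length is chosen so that `p'` extends to a prime at every index.
-/

set_option autoImplicit false
set_option linter.style.haveILetI false
set_option linter.unusedVariables false
set_option linter.style.longLine false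
set_option backward.isDefEq.respectTransparency false
set_option backward.isDefEq.respectTransparency.types false

universe u

open TensorProduct AlgebraicGeometry CategoryTheory CategoryTheory.Limits

namespace Groth.Agent.H69.Shrink

attribute [local instance] Algebra.TensorProduct.rightAlgebra

/-- A prime of the base with domain fibre extends to a prime of a flat algebra. -/
theorem isPrime_map_of_isDomain_fiber {R B : Type u} [CommRing R] [CommRing B] [Algebra R B]
    [Module.Flat R B] (p : Ideal R) [p.IsPrime] [IsDomain (p.Fiber B)] :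
    (p.map (algebraMap R B)).IsPrime := by
  let φ : B →+* p.Fiber B := (Algebra.TensorProduct.includeRight : B →ₐ[R] p.Fiber B).toRingHom
  suffices h : RingHom.ker φ = p.map (algebraMap R B) from h ▸ RingHom.ker_isPrime _
  refine le_antisymm (fun x hx => ?_) (Ideal.map_le_iff_le_comap.mpr fun r hr => ?_)
  · let e : (R ⧸ p) ⊗[R] B ≃ₗ[R] B ⧸ (p • ⊤ : Submodule R B) := TensorProduct.quotTensorEquivQuotSMul B p
    let ι : (R ⧸ p) →ₐ[R] p.ResidueField := IsScalarTower.toAlgHom R _ _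
    have hinj : Function.Injective (ι.toLinearMap.rTensor B) :=
      Module.Flat.rTensor_preserves_injective_linearMap _ (by
        exact IsFractionRing.injective (R ⧸ p) p.ResidueField)
    have h0 : (1 : R ⧸ p) ⊗ₜ[R] x = 0 := hinj (by
      rw [map_zero, LinearMap.rTensor_tmul]
      show ι 1 ⊗ₜ[R] x = 0
      rw [map_one]
      exact hx)
    have h1 := congrArg e h0
    rw [show (1 : R ⧸ p) = Ideal.Quotient.mk _ 1 from rfl, TensorProduct.quotTensorEquivQuotSMul_mk_tmul,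
      one_smul, map_zero, Submodule.Quotient.mk_eq_zero, Ideal.smul_top_eq_map] at h1
    exact h1
  · show (1 : p.ResidueField) ⊗ₜ[R] algebraMap R B r = 0
    rw [Algebra.algebraMap_eq_smul_one, ← TensorProduct.smul_tmul, ← Algebra.algebraMap_eq_smul_one,
      Ideal.algebraMap_residueField_eq_zero.2 hr, zero_tmul]

/-- The kernel of a flat algebra to its fibre. -/
theorem mem_map_of_fiber_eq_zero {R B : Type u} [CommRing R] [CommRing B] [Algebra R B]
    [Module.Flat R B] (p : Ideal R) [p.IsPrime] {x : B} (hx : (1 : p.ResidueField) ⊗ₜ[R] x = 0) :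
    x ∈ p.map (algebraMap R B) := by
  let e : (R ⧸ p) ⊗[R] B ≃ₗ[R] B ⧸ (p • ⊤ : Submodule R B) := TensorProduct.quotTensorEquivQuotSMul B p
  let ι : (R ⧸ p) →ₐ[R] p.ResidueField := IsScalarTower.toAlgHom R _ _
  have hinj : Function.Injective (ι.toLinearMap.rTensor B) :=
    Module.Flat.rTensor_preserves_injective_linearMap _ (by
      exact IsFractionRing.injective (R ⧸ p) p.ResidueField)
  have h0 : (1 : R ⧸ p) ⊗ₜ[R] x = 0 := hinj (by
    rw [map_zero, LinearMap.rTensor_tmul]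
    show ι 1 ⊗ₜ[R] x = 0
    rw [map_one]
    exact hx)
  have h1 := congrArg e h0
  rw [show (1 : R ⧸ p) = Ideal.Quotient.mk _ 1 from rfl, TensorProduct.quotTensorEquivQuotSMul_mk_tmul,
    one_smul, map_zero, Submodule.Quotient.mk_eq_zero, Ideal.smul_top_eq_map] at h1
  exact h1

/-- An element of a flat algebra in the extended prime after base change is in the extended prime. -/
theorem mem_map_of_mem_map {R R' B B' : Type u} [CommRing R] [CommRing R'] [CommRing B] [CommRing B']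
    [Algebra R R'] [Algebra R B] [Algebra R' B'] [Algebra R B'] [Algebra B B'] [IsScalarTower R R' B']
    [IsScalarTower R B B'] [Module.Flat R B] (p : Ideal R) [p.IsPrime] (p' : Ideal R') [p'.IsPrime]
    [hp : p'.LiesOver p] (h : Algebra.IsPushout R R' B B') {x : B}
    (hx : algebraMap B B' x ∈ p'.map (algebraMap R' B')) : x ∈ p.map (algebraMap R B) := by
  let ψ : p.ResidueField →ₐ[R] p'.ResidueField := Ideal.ResidueField.mapₐ p p' (Algebra.ofId R R') hp.over
  have hinj : Function.Injective (ψ.toLinearMap.rTensor B) :=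
    Module.Flat.rTensor_preserves_injective_linearMap _ (RingHom.injective ψ.toRingHom)
  refine mem_map_of_fiber_eq_zero p (hinj ?_)
  rw [map_zero, LinearMap.rTensor_tmul]
  show ψ 1 ⊗ₜ[R] x = 0
  rw [map_one]
  let e : p'.ResidueField ⊗[R] B ≃ₗ[p'.ResidueField] p'.ResidueField ⊗[R'] B' :=
    (AlgebraTensorModule.cancelBaseChange R R' p'.ResidueField p'.ResidueField B).symm.trans
      (AlgebraTensorModule.congr (LinearEquiv.refl _ _) (Algebra.IsPushout.equiv R R' B B').toLinearEquiv)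
  refine e.injective ?_
  rw [map_zero]
  have : e ((1 : p'.ResidueField) ⊗ₜ[R] x) = 1 ⊗ₜ[R'] algebraMap B B' x := by
    simp [e, Algebra.IsPushout.equiv_tmul]
  rw [this]
  have hle : p'.map (algebraMap R' B') ≤
      RingHom.ker (Algebra.TensorProduct.includeRight : B' →ₐ[R'] p'.ResidueField ⊗[R'] B').toRingHom :=
    Ideal.map_le_iff_le_comap.mpr fun r hr => by
      show (1 : p'.ResidueField) ⊗ₜ[R'] algebraMap R' B' r = 0
      rw [Algebra.algebraMap_eq_smul_one, ← TensorProduct.smul_tmul, ← Algebra.algebraMap_eq_smul_one,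
        Ideal.algebraMap_residueField_eq_zero.2 hr, zero_tmul]
  exact hle hx

/-- The step map stays bijective on the fibre after a base change. -/
theorem baseChange_bijective' {B B' K0 K : Type u} [CommRing B] [CommRing B'] [Algebra B B']
    [CommRing K0] [CommRing K] [Algebra B K0] [Algebra K0 K] [Algebra B K] [Algebra B' K]
    [IsScalarTower B K0 K] [IsScalarTower B B' K] {M M' F F' : Type u} [AddCommGroup M] [Module B M]
    [AddCommGroup M'] [Module B M'] [Module B' M'] [IsScalarTower B B' M'] [AddCommGroup F] [Module B F]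
    [AddCommGroup F'] [Module B F'] [Module B' F'] [IsScalarTower B B' F']
    (gF : F →ₗ[B] F') (hF : IsBaseChange B' gF) (gM : M →ₗ[B] M') (hM : IsBaseChange B' gM)
    (α : F →ₗ[B] M) (α' : F' →ₗ[B'] M') (hα : ∀ x, α' (gF x) = gM (α x))
    (h : Function.Bijective (α.baseChange K0)) :
    Function.Bijective (α'.baseChange K) := by
  let eF : K ⊗[B] F ≃ₗ[K] K ⊗[B'] F' :=
    (AlgebraTensorModule.cancelBaseChange B B' K K F).symm.trans
      (AlgebraTensorModule.congr (LinearEquiv.refl K K) hF.equiv)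
  let eM : K ⊗[B] M ≃ₗ[K] K ⊗[B'] M' :=
    (AlgebraTensorModule.cancelBaseChange B B' K K M).symm.trans
      (AlgebraTensorModule.congr (LinearEquiv.refl K K) hM.equiv)
  let qF : K ⊗[K0] (K0 ⊗[B] F) ≃ₗ[K] K ⊗[B] F := AlgebraTensorModule.cancelBaseChange B K0 K K F
  let qM : K ⊗[K0] (K0 ⊗[B] M) ≃ₗ[K] K ⊗[B] M := AlgebraTensorModule.cancelBaseChange B K0 K K M
  have hb : Function.Bijective ((α.baseChange K0).baseChange K) := by
    let eh := LinearEquiv.ofBijective (α.baseChange K0) h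
    have : (α.baseChange K0).baseChange K = (eh.baseChange K0 K _ _).toLinearMap := by
      refine TensorProduct.AlgebraTensorModule.ext fun c x => ?_
      simp [eh]
    rw [this]
    exact (eh.baseChange K0 K _ _).bijective
  have key : α'.baseChange K = eM.toLinearMap ∘ₗ (qM.toLinearMap ∘ₗ ((α.baseChange K0).baseChange K) ∘ₗ
      qF.symm.toLinearMap) ∘ₗ eF.symm.toLinearMap := by
    rw [← LinearMap.comp_assoc, ← LinearEquiv.comp_toLinearMap_symm_eq, LinearEquiv.symm_symm]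
    refine TensorProduct.AlgebraTensorModule.ext fun c x => ?_
    simp [eF, eM, qF, qM, IsBaseChange.equiv_tmul, hα]
  rw [key]
  exact eM.bijective.comp ((qM.bijective.comp (hb.comp qF.symm.bijective)).comp eF.symm.bijective)

/-- Cokernels commute with base change. -/
theorem nonempty_coker' {B B' : Type u} [CommRing B] [CommRing B'] [Algebra B B']
    {M M' N N' : Type u} [AddCommGroup M] [Module B M] [AddCommGroup M'] [Module B M']
    [Module B' M'] [IsScalarTower B B' M'] [AddCommGroup N] [Module B N] [AddCommGroup N'] [Module B N']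
    [Module B' N'] [IsScalarTower B B' N'] (gM : M →ₗ[B] M') (hM : IsBaseChange B' gM)
    (gN : N →ₗ[B] N') (hN : IsBaseChange B' gN) (W : Submodule B M) (e : (M ⧸ W) ≃ₗ[B] N)
    (W' : Submodule B' M') (hW : W' = Submodule.span B' (gM '' (W : Set M))) :
    Nonempty ((M' ⧸ W') ≃ₗ[B'] N') := by
  let φ : M' →ₗ[B'] N' := hM.lift (gN ∘ₗ e.toLinearMap ∘ₗ W.mkQ)
  have hφ : ∀ x, φ (gM x) = gN (e (Submodule.Quotient.mk x)) := hM.lift_eq _
  have hker : W' ≤ LinearMap.ker φ := by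
    rw [hW, Submodule.span_le]
    rintro _ ⟨x, hx, rfl⟩
    show φ (gM x) = 0
    rw [hφ, (Submodule.Quotient.mk_eq_zero _).mpr hx, map_zero, map_zero]
  let ψ0 : (M ⧸ W) →ₗ[B] M' ⧸ W' := W.liftQ ((W'.mkQ.restrictScalars B) ∘ₗ gM) fun x hx => by
    show Submodule.Quotient.mk (gM x) = 0
    rw [Submodule.Quotient.mk_eq_zero, hW]
    exact Submodule.subset_span ⟨x, hx, rfl⟩
  let ψ : N' →ₗ[B'] M' ⧸ W' := hN.lift (ψ0 ∘ₗ e.symm.toLinearMap)
  refine ⟨LinearEquiv.ofLinear (W'.liftQ φ hker) ψ ?_ ?_⟩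
  · refine hN.algHom_ext _ _ fun y => ?_
    obtain ⟨y, rfl⟩ := e.surjective y
    obtain ⟨x, rfl⟩ := Submodule.Quotient.mk_surjective _ y
    show W'.liftQ φ hker (ψ (gN (e _))) = gN (e _)
    rw [hN.lift_eq]
    show W'.liftQ φ hker (ψ0 (e.symm (e _))) = _
    rw [e.symm_apply_apply]
    exact hφ x
  · refine Submodule.linearMap_qext _ (hM.algHom_ext _ _ fun x => ?_)
    show ψ (φ (gM x)) = Submodule.Quotient.mk (gM x)
    rw [hφ, hN.lift_eq]
    show ψ0 (e.symm (e _)) = _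
    rw [e.symm_apply_apply]
    rfl

/-- A base change of a module, with only the two expected module structures. -/
def BCMod (A₀ A M : Type u) [CommRing A₀] [CommRing A] [Algebra A₀ A] [AddCommGroup M] [Module A₀ M] :
    Type u :=
  A ⊗[A₀] M

section BCMod

variable (A₀ A M : Type u) [CommRing A₀] [CommRing A] [Algebra A₀ A] [AddCommGroup M] [Module A₀ M]

noncomputable instance : AddCommGroup (BCMod A₀ A M) := inferInstanceAs (AddCommGroup (A ⊗[A₀] M))
noncomputable instance : Module A (BCMod A₀ A M) := inferInstanceAs (Module A (A ⊗[A₀] M))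
noncomputable instance : Module A₀ (BCMod A₀ A M) := inferInstanceAs (Module A₀ (A ⊗[A₀] M))
instance : IsScalarTower A₀ A (BCMod A₀ A M) := inferInstanceAs (IsScalarTower A₀ A (A ⊗[A₀] M))
instance [Module.Finite A₀ M] : Module.Finite A (BCMod A₀ A M) :=
  inferInstanceAs (Module.Finite A (A ⊗[A₀] M))

/-- The map to the base change. -/
noncomputable def BCMod.map : M →ₗ[A₀] BCMod A₀ A M := TensorProduct.mk A₀ A M 1

theorem BCMod.isBaseChange : IsBaseChange A (BCMod.map A₀ A M) := TensorProduct.isBaseChange A₀ M A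

end BCMod

set_option maxHeartbeats 1600000 in
/-- Base change of a complete dévissage. -/
theorem devissage_baseChange
    (R S : Type u) [CommRing R] [CommRing S] [Algebra R S]
    (N : Type u) [AddCommGroup N] [Module S N]
    (p : Ideal R) [p.IsPrime] (𝒟 : FlatCA.CompleteDevissage R S N p)
    (R' : Type u) [CommRing R'] [Algebra R R'] (p' : Ideal R') [p'.IsPrime] [hp : p'.LiesOver p]
    (S' : Type u) [CommRing S'] [Algebra R' S'] [Algebra R S'] [Algebra S S'] [IsScalarTower R R' S']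
    [IsScalarTower R S S'] [Algebra.IsPushout R R' S S']
    (N' : Type u) [AddCommGroup N'] [Module S' N'] [Module S N'] [IsScalarTower S S' N']
    (f : N →ₗ[S] N') (hf : IsBaseChange S' f) :
    ∃ (𝒟' : FlatCA.CompleteDevissage R' S' N' p')
      (aA : ∀ i : Fin 𝒟.n, Algebra (𝒟.A i) (𝒟'.A i)) (rA : ∀ i : Fin 𝒟.n, Algebra R (𝒟'.A i))
      (_t1 : ∀ i : Fin 𝒟.n, IsScalarTower R (R') (𝒟'.A i)) (_t2 : ∀ i : Fin 𝒟.n, IsScalarTower R (𝒟.A i) (𝒟'.A i))
      (aB : ∀ i : Fin 𝒟.n, Algebra (𝒟.B i) (𝒟'.B i)) (rB : ∀ i : Fin 𝒟.n, Algebra R (𝒟'.B i))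
      (_t3 : ∀ i : Fin 𝒟.n, IsScalarTower R (R') (𝒟'.B i)) (_t4 : ∀ i : Fin 𝒟.n, IsScalarTower R (𝒟.B i) (𝒟'.B i))
      (bA : ∀ i : Fin 𝒟.n, Algebra (𝒟.B i) (𝒟'.A i)) (_t5 : ∀ i : Fin 𝒟.n, IsScalarTower (𝒟.B i) (𝒟.A i) (𝒟'.A i))
      (_t6 : ∀ i : Fin 𝒟.n, IsScalarTower (𝒟.B i) (𝒟'.B i) (𝒟'.A i))
      (bA' : ∀ i : Fin 𝒟.n, Algebra (𝒟.B i) (𝒟'.A (i + 1)))
      (_t7 : ∀ i : Fin 𝒟.n, IsScalarTower (𝒟.B i) (𝒟'.B i) (𝒟'.A (i + 1)))
      (sA : Algebra S (𝒟'.A 0)) (_t8 : IsScalarTower S (S') (𝒟'.A 0))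
      (mA : ∀ i : Fin 𝒟.n, Module (𝒟.A i) (𝒟'.M i)) (_t9 : ∀ i : Fin 𝒟.n, IsScalarTower (𝒟.A i) (𝒟'.A i) (𝒟'.M i))
      (gM : ∀ i : Fin 𝒟.n, 𝒟.M i →ₗ[𝒟.A i] 𝒟'.M i),
      𝒟'.n = 𝒟.n ∧ 𝒟'.r = 𝒟.r ∧
      (letI := aA ⟨0, 𝒟.pos⟩; IsScalarTower S (𝒟.A 0) (𝒟'.A 0)) ∧
      (∀ x : N, 𝒟'.isoN (f x) = gM ⟨0, 𝒟.pos⟩ (𝒟.isoN x)) ∧
      (∀ (i : Fin 𝒟.n) (h : (i : ℕ) + 1 < 𝒟.n),
        letI := aA ⟨i + 1, h⟩; IsScalarTower (𝒟.B i) (𝒟.A (i + 1)) (𝒟'.A (i + 1))) ∧
      ∀ i : Fin 𝒟.n,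
        Algebra.IsPushout R R' (𝒟.A i) (𝒟'.A i) ∧ Algebra.IsPushout R R' (𝒟.B i) (𝒟'.B i) ∧
        IsBaseChange (𝒟'.A i) (gM i) ∧
        LinearMap.range (𝒟'.α i) =
          Submodule.span (𝒟'.B i) ((gM i) '' (LinearMap.range (𝒟.α i) : Set (𝒟.M i))) := by
  classical
  let n := 𝒟.n
  let KA : ∀ i, Ideal (R' ⊗[R] 𝒟.A i) := fun i => if i < n then ⊥ else ⊤
  let KB : ∀ i, Ideal (R' ⊗[R] 𝒟.B i) := fun i => if i < n then ⊥ else ⊤
  let J : ℕ → Ideal p'.ResidueField := fun i => if i < n then ⊤ else ⊥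
  let Q : ℕ → Type u := fun i => p'.ResidueField ⧸ J i
  have hQ : ∀ i, i < n → Subsingleton (Q i) := fun i h => Ideal.Quotient.subsingleton_iff.mpr (if_pos h)
  let A' : ℕ → Type u := fun i => (R' ⊗[R] 𝒟.A i) ⧸ KA i
  let B0 : ℕ → Type u := fun i => (R' ⊗[R] 𝒟.B i) ⧸ KB i
  let B' : ℕ → Type u := fun i => B0 i × Q i
  let tA : ∀ i, R' ⊗[R] 𝒟.B i →ₐ[R'] R' ⊗[R] 𝒟.A i := fun i =>
    Algebra.TensorProduct.map (AlgHom.id R' R') (IsScalarTower.toAlgHom R (𝒟.B i) (𝒟.A i))
  let tA' : ∀ i, R' ⊗[R] 𝒟.B i →ₐ[R'] R' ⊗[R] 𝒟.A (i + 1) := fun i =>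
    Algebra.TensorProduct.map (AlgHom.id R' R') (IsScalarTower.toAlgHom R (𝒟.B i) (𝒟.A (i + 1)))
  have hK1 : ∀ i, KB i ≤ (KA i).comap (tA i).toRingHom := fun i => by
    by_cases h : i < n
    · simp [KB, h]
    · simp [KA, h, Ideal.comap_top]
  have hK2 : ∀ i, KB i ≤ (KA (i + 1)).comap (tA' i).toRingHom := fun i => by
    by_cases h : i < n
    · simp [KB, h]
    · have : ¬ i + 1 < n := fun h' => h (Nat.lt_of_succ_lt h')
      simp [KA, this, Ideal.comap_top]
  letI aBA : ∀ i, Algebra (B' i) (A' i) := fun i =>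
    ((Ideal.quotientMap (KA i) (tA i).toRingHom (hK1 i)).comp (RingHom.fst (B0 i) (Q i))).toAlgebra
  letI aBA' : ∀ i, Algebra (B' i) (A' (i + 1)) := fun i =>
    ((Ideal.quotientMap (KA (i + 1)) (tA' i).toRingHom (hK2 i)).comp (RingHom.fst (B0 i) (Q i))).toAlgebra
  haveI tBA : ∀ i, IsScalarTower R' (B' i) (A' i) := fun i => IsScalarTower.of_algebraMap_eq (R := R') (S := B' i) (A := A' i) fun r => by
    show Ideal.Quotient.mk (KA i) (algebraMap R' _ r) = Ideal.Quotient.mk (KA i) (tA i (algebraMap R' _ r))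
    rw [AlgHom.commutes]
  haveI tBA' : ∀ i, IsScalarTower R' (B' i) (A' (i + 1)) := fun i => IsScalarTower.of_algebraMap_eq (R := R') (S := B' i) (A := A' (i + 1)) fun r => by
    show Ideal.Quotient.mk (KA (i + 1)) (algebraMap R' _ r) = Ideal.Quotient.mk (KA (i + 1)) (tA' i (algebraMap R' _ r))
    rw [AlgHom.commutes]
  let sc : S' →ₐ[R'] A' 0 := ((Ideal.Quotient.mkₐ R' (KA 0)).comp
    (Algebra.TensorProduct.map (AlgHom.id R' R') (IsScalarTower.toAlgHom R S (𝒟.A 0)))).comp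
      (Algebra.IsPushout.equiv R R' S S').symm.toAlgHom
  have hsc : ∀ x, sc (algebraMap S S' x) = algebraMap (𝒟.A 0) (A' 0) (algebraMap S (𝒟.A 0) x) := fun x => by
    have : (Algebra.IsPushout.equiv R R' S S').symm (algebraMap S S' x) = 1 ⊗ₜ[R] x := by
      rw [AlgEquiv.symm_apply_eq, Algebra.IsPushout.equiv_tmul, map_one, one_mul]
    show Ideal.Quotient.mk (KA 0) (Algebra.TensorProduct.map _ _ ((Algebra.IsPushout.equiv R R' S S').symm _)) = _
    rw [this]
    rfl
  letI aSA : Algebra S' (A' 0) := sc.toRingHom.toAlgebra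
  haveI tSA : IsScalarTower R' S' (A' 0) := IsScalarTower.of_algebraMap_eq fun r => (sc.commutes r).symm
  let M' : ℕ → Type u := fun i => BCMod (𝒟.A i) (A' i) (𝒟.M i)
  letI mB' : ∀ i, Module (B' i) (M' i) := fun i => Module.compHom (M' i) (algebraMap (B' i) (A' i))
  haveI tBAM : ∀ i, IsScalarTower (B' i) (A' i) (M' i) := fun i => IsScalarTower.of_compHom (B' i) (A' i) (M' i)
  letI mR' : ∀ i, Module R' (M' i) := fun i => Module.compHom (M' i) (algebraMap R' (B' i))
  haveI tRBM : ∀ i, IsScalarTower R' (B' i) (M' i) := fun i => IsScalarTower.of_compHom R' (B' i) (M' i)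
  letI mBn : ∀ i, Module (B' i) (M' (i + 1)) := fun i => Module.compHom (M' (i + 1)) (algebraMap (B' i) (A' (i + 1)))
  haveI tBnAM : ∀ i, IsScalarTower (B' i) (A' (i + 1)) (M' (i + 1)) := fun i =>
    IsScalarTower.of_compHom (B' i) (A' (i + 1)) (M' (i + 1))
  letI mS' : Module S' (M' 0) := Module.compHom (M' 0) (algebraMap S' (A' 0))
  haveI tSAM : IsScalarTower S' (A' 0) (M' 0) := IsScalarTower.of_compHom S' (A' 0) (M' 0)
  letI cB : ∀ i : Fin n, Algebra (𝒟.B i) (B' i) := fun i =>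
    haveI := hQ i i.2
    (RingHom.prod (algebraMap (𝒟.B i) (B0 i)) (trivHom (𝒟.B i) (Q i))).toAlgebra
  haveI u4 : ∀ i : Fin n, IsScalarTower R (𝒟.B i) (B' i) := fun i =>
    haveI := hQ i i.2
    IsScalarTower.of_algebraMap_eq (R := R) (S := 𝒟.B i) (A := B' i) fun r =>
      Prod.ext (IsScalarTower.algebraMap_apply R (𝒟.B i) (B0 i) r) (Subsingleton.elim _ _)
  have hcBA : ∀ (i : Fin n) c, algebraMap (B' i) (A' i) (algebraMap (𝒟.B i) (B' i) c) =
      algebraMap (𝒟.A i) (A' i) (algebraMap (𝒟.B i) (𝒟.A i) c) := fun i c => rfl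
  have hcBA' : ∀ (i : Fin n) c, algebraMap (B' i) (A' (i + 1)) (algebraMap (𝒟.B i) (B' i) c) =
      algebraMap (𝒟.A (i + 1)) (A' (i + 1)) (algebraMap (𝒟.B i) (𝒟.A (i + 1)) c) := fun i c => rfl
  letI cBA : ∀ i : Fin n, Algebra (𝒟.B i) (A' i) := fun i =>
    ((algebraMap (𝒟.A i) (A' i)).comp (algebraMap (𝒟.B i) (𝒟.A i))).toAlgebra
  haveI u5 : ∀ i : Fin n, IsScalarTower (𝒟.B i) (𝒟.A i) (A' i) := fun i => IsScalarTower.of_algebraMap_eq (R := 𝒟.B i) (S := 𝒟.A i) (A := A' i) fun _ => rfl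
  haveI u6 : ∀ i : Fin n, IsScalarTower (𝒟.B i) (B' i) (A' i) := fun i => IsScalarTower.of_algebraMap_eq (R := 𝒟.B i) (S := B' i) (A := A' i) fun c => (hcBA i c).symm
  letI cBA' : ∀ i : Fin n, Algebra (𝒟.B i) (A' (i + 1)) := fun i =>
    ((algebraMap (B' i) (A' (i + 1))).comp (algebraMap (𝒟.B i) (B' i))).toAlgebra
  haveI u7 : ∀ i : Fin n, IsScalarTower (𝒟.B i) (B' i) (A' (i + 1)) := fun i => IsScalarTower.of_algebraMap_eq (R := 𝒟.B i) (S := B' i) (A := A' (i + 1)) fun _ => rfl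
  haveI u7' : ∀ i : Fin n, IsScalarTower (𝒟.B i) (𝒟.A (i + 1)) (A' (i + 1)) := fun i => IsScalarTower.of_algebraMap_eq (R := 𝒟.B i) (S := 𝒟.A (i + 1)) (A := A' (i + 1)) fun c => hcBA' i c
  letI cSA : Algebra S (A' 0) := ((algebraMap S' (A' 0)).comp (algebraMap S S')).toAlgebra
  haveI u8 : IsScalarTower S S' (A' 0) := IsScalarTower.of_algebraMap_eq (R := S) (S := S') (A := A' 0) fun _ => rfl
  haveI uSA : IsScalarTower S (𝒟.A 0) (A' 0) := IsScalarTower.of_algebraMap_eq (R := S) (S := 𝒟.A 0) (A := A' 0) fun x => hsc x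
  -- pushouts
  have hpA : ∀ i, i < n → Algebra.IsPushout R R' (𝒟.A i) (A' i) := fun i h =>
    Algebra.IsPushout.of_equiv (R := R) (R' := R') (S := 𝒟.A i) (S' := R' ⊗[R] 𝒟.A i)
      ((AlgEquiv.quotientBot R' _).symm.trans (Ideal.quotientEquivAlgOfEq R' (if_pos h).symm)) rfl
  have hpB : ∀ i : Fin n, Algebra.IsPushout R R' (𝒟.B i) (B' i) := fun i => by
    haveI := hQ i i.2
    refine Algebra.IsPushout.of_equiv (R := R) (R' := R') (S := 𝒟.B i) (S' := R' ⊗[R] 𝒟.B i)
      (((AlgEquiv.quotientBot R' _).symm.trans (Ideal.quotientEquivAlgOfEq R' (if_pos i.2 : KB i = ⊥).symm)).trans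
        (AlgEquiv.ofRingEquiv (f :=
          { toFun := fun x => (x, 0), invFun := Prod.fst, left_inv := fun _ => rfl,
            right_inv := fun x => Prod.ext rfl (Subsingleton.elim _ _),
            map_mul' := fun _ _ => Prod.ext rfl (Subsingleton.elim _ _),
            map_add' := fun _ _ => Prod.ext rfl (Subsingleton.elim _ _) })
          fun x => Prod.ext rfl (Subsingleton.elim _ _))) ?_
    exact RingHom.ext fun x => Prod.ext rfl (Subsingleton.elim _ _)
  haveI hbS : Algebra.IsPushout S S' (𝒟.A 0) (A' 0) :=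
    haveI := hpA 0 𝒟.pos
    H21.Devissage.BaseChange.isPushout R R' S S' (𝒟.A 0) (A' 0)
  have hpBA : ∀ i : Fin n, Algebra.IsPushout (𝒟.B i) (B' i) (𝒟.A i) (A' i) := fun i =>
    haveI := hpA i i.2; haveI := hpB i
    H21.Devissage.BaseChange.isPushout R R' (𝒟.B i) (B' i) (𝒟.A i) (A' i)
  have hpBA' : ∀ (i : Fin n), (i : ℕ) + 1 < n → Algebra.IsPushout (𝒟.B i) (B' i) (𝒟.A (i + 1)) (A' (i + 1)) := fun i h =>
    haveI := hpA (i + 1) h; haveI := hpB i
    H21.Devissage.BaseChange.isPushout R R' (𝒟.B i) (B' i) (𝒟.A (i + 1)) (A' (i + 1))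
  -- modules
  letI mB₀ : ∀ i, Module (𝒟.B i) (M' i) := fun i => Module.compHom (M' i) (algebraMap (𝒟.B i) (𝒟.A i))
  haveI tB₀ : ∀ i, IsScalarTower (𝒟.B i) (𝒟.A i) (M' i) := fun i => IsScalarTower.of_compHom (𝒟.B i) (𝒟.A i) (M' i)
  letI mB₁ : ∀ i, Module (𝒟.B i) (M' (i + 1)) := fun i => Module.compHom (M' (i + 1)) (algebraMap (𝒟.B i) (𝒟.A (i + 1)))
  haveI tB₁ : ∀ i, IsScalarTower (𝒟.B i) (𝒟.A (i + 1)) (M' (i + 1)) := fun i => IsScalarTower.of_compHom (𝒟.B i) (𝒟.A (i + 1)) (M' (i + 1))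
  letI mS₀ : Module S (M' 0) := Module.compHom (M' 0) (algebraMap S (𝒟.A 0))
  haveI tS₀ : IsScalarTower S (𝒟.A 0) (M' 0) := IsScalarTower.of_compHom S (𝒟.A 0) (M' 0)
  haveI uBM : ∀ i : Fin n, IsScalarTower (𝒟.B i) (B' i) (M' i) := fun i => ⟨fun x y m => by
    show algebraMap (B' i) (A' i) (x • y) • m = x • algebraMap (B' i) (A' i) y • m
    rw [Algebra.smul_def, map_mul, hcBA, mul_smul, IsScalarTower.algebraMap_smul, IsScalarTower.algebraMap_smul]⟩
  haveI uBM' : ∀ i : Fin n, IsScalarTower (𝒟.B i) (B' i) (M' (i + 1)) := fun i => ⟨fun x y m => by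
    show algebraMap (B' i) (A' (i + 1)) (x • y) • m = x • algebraMap (B' i) (A' (i + 1)) y • m
    rw [Algebra.smul_def, map_mul, hcBA', mul_smul, IsScalarTower.algebraMap_smul, IsScalarTower.algebraMap_smul]⟩
  let g : ∀ i, 𝒟.M i →ₗ[𝒟.A i] M' i := fun i => BCMod.map (𝒟.A i) (A' i) (𝒟.M i)
  have hgA : ∀ i, IsBaseChange (A' i) (g i) := fun i => BCMod.isBaseChange (𝒟.A i) (A' i) (𝒟.M i)
  have hgB : ∀ i : Fin n, IsBaseChange (B' i) ((g i).restrictScalars (𝒟.B i)) := fun i =>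
    H21.Devissage.BaseChange.isBaseChange_restrict _ _ _ _ (hpBA i) (g i) (hgA i)
  let v : ∀ i, Fin (𝒟.r i) → M' i := fun i j => g i (𝒟.α i (Pi.single j 1))
  let α' : ∀ i, (Fin (𝒟.r i) → B' i) →ₗ[B' i] M' i := fun i => Fintype.linearCombination (B' i) (v i)
  have hα : ∀ (i : Fin n) (y : Fin (𝒟.r i) → 𝒟.B i),
      α' i (fun j => algebraMap (𝒟.B i) (B' i) (y j)) = (g i).restrictScalars (𝒟.B i) (𝒟.α i y) := by
    intro i y
    conv_rhs => rw [show y = ∑ j, y j • (Pi.single j (1 : 𝒟.B i)) from pi_eq_sum_univ' y]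
    simp only [map_sum, map_smul]
    refine (Fintype.linearCombination_apply (B' i) (v i) _).trans (Finset.sum_congr rfl fun j _ => ?_)
    exact IsScalarTower.algebraMap_smul (B' i) (y j) (v i j)
  have hrange : ∀ i : Fin n, LinearMap.range (α' i) =
      Submodule.span (B' i) ((g i) '' (LinearMap.range (𝒟.α i) : Set (𝒟.M i))) := by
    intro i
    refine le_antisymm ?_ ?_
    · rw [Fintype.range_linearCombination, Submodule.span_le]
      rintro _ ⟨j, rfl⟩
      exact Submodule.subset_span ⟨_, LinearMap.mem_range_self _ _, rfl⟩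
    · rw [Submodule.span_le]
      rintro _ ⟨_, ⟨y, rfl⟩, rfl⟩
      exact ⟨_, hα i y⟩
  haveI uSM : IsScalarTower S S' (M' 0) := ⟨fun x y m => by
    show sc (x • y) • m = x • sc y • m
    rw [Algebra.smul_def, map_mul, hsc, mul_smul, IsScalarTower.algebraMap_smul, IsScalarTower.algebraMap_smul]⟩
  have hgS : IsBaseChange S' ((g 0).restrictScalars S) :=
    H21.Devissage.BaseChange.isBaseChange_restrict _ _ _ _ hbS (g 0) (hgA 0)
  let isoN' : N' ≃ₗ[S'] M' 0 :=
    hf.equiv.symm.trans ((AlgebraTensorModule.congr (LinearEquiv.refl S' S') 𝒟.isoN).trans hgS.equiv)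
  have hisoN : ∀ x : N, isoN' (f x) = g 0 (𝒟.isoN x) := fun x => by
    have : hf.equiv.symm (f x) = 1 ⊗ₜ[S] x := by
      rw [LinearEquiv.symm_apply_eq, hf.equiv_tmul, one_smul]
    simp [isoN', this, IsBaseChange.equiv_tmul]
  have hsmooth : ∀ i : Fin n, Algebra.Smooth R' (B' i) := fun i => by
    haveI := hpB i
    haveI := 𝒟.smooth i i.2
    exact Algebra.Smooth.of_equiv (Algebra.IsPushout.equiv R R' (𝒟.B i) (B' i))
  have hgi : ∀ i : Fin n, FlatCA.GeomIrredFibres R' (B' i) := fun i => by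
    haveI := hpB i
    exact MorphismProperty.of_isPullback (P := @AlgebraicGeometry.GeometricallyIrreducible)
      (H21.Devissage.BaseChange.spec_isPullback R R' (𝒟.B i) (B' i)) (𝒟.geomIrred i i.2)
  have hp' : ∀ i, (p'.map (algebraMap R' (B' i))).IsPrime := by
    intro i
    by_cases h : i < n
    · haveI := hsmooth ⟨i, h⟩
      haveI : IsDomain (p'.Fiber (B' i)) :=
        Lib.RG.Fibres.isDomain_of_smooth_of_geomIrred (hgi ⟨i, h⟩) p'.ResidueField
      exact isPrime_map_of_isDomain_fiber p'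
    · haveI : Subsingleton (B0 i) := Ideal.Quotient.subsingleton_iff.mpr (if_neg h)
      haveI : (J i).IsPrime := by rw [show J i = ⊥ from if_neg h]; exact Ideal.isPrime_bot
      have heq : p'.map (algebraMap R' (B' i)) = (⊥ : Ideal (Q i)).comap (RingHom.snd (B0 i) (Q i)) := by
        refine le_antisymm (Ideal.map_le_iff_le_comap.mpr fun r hr => ?_) fun x hx => ?_
        · show Ideal.Quotient.mk (J i) (algebraMap R' p'.ResidueField r) = 0
          rw [Ideal.algebraMap_residueField_eq_zero.2 hr, map_zero]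
        · rw [show x = 0 from Prod.ext (Subsingleton.elim _ _) hx]
          exact Ideal.zero_mem _
      exact heq ▸ inferInstance
  haveI := hp'
  have hcoker : ∀ i, i + 1 < n → Nonempty ((M' i ⧸ LinearMap.range (α' i)) ≃ₗ[B' i] M' (i + 1)) := by
    intro i h
    have hi : i < n := Nat.lt_of_succ_lt h
    letI := cB ⟨i, hi⟩; letI := cBA' ⟨i, hi⟩
    haveI : IsScalarTower (𝒟.B i) (B' i) (M' i) := uBM ⟨i, hi⟩
    haveI : IsScalarTower (𝒟.B i) (B' i) (M' (i + 1)) := uBM' ⟨i, hi⟩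
    haveI : IsScalarTower (𝒟.B i) (B' i) (A' (i + 1)) := u7 ⟨i, hi⟩
    haveI : IsScalarTower (𝒟.B i) (𝒟.A (i + 1)) (A' (i + 1)) := u7' ⟨i, hi⟩
    exact nonempty_coker' ((g i).restrictScalars (𝒟.B i)) (hgB ⟨i, hi⟩) ((g (i + 1)).restrictScalars (𝒟.B i))
      (H21.Devissage.BaseChange.isBaseChange_restrict _ _ _ _ (hpBA' ⟨i, hi⟩ h) (g (i + 1)) (hgA (i + 1)))
      (LinearMap.range (𝒟.α i)) (𝒟.isoCoker i h) _ (hrange ⟨i, hi⟩)
  let 𝒟' : FlatCA.CompleteDevissage R' S' N' p' :=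
    { n := n, pos := 𝒟.pos, A := A', B := B', M := M', r := 𝒟.r, α := α'
      surjSA := H21.Devissage.BaseChange.surjective S S' (𝒟.A 0) (A' 0) hbS 𝒟.surjSA
      fpSA := by
        haveI := 𝒟.fpSA
        exact H21.Devissage.BaseChange.finitePresentation S S' (𝒟.A 0) (A' 0) hbS
      surjBA' := by
        intro i h
        have hi : i < n := Nat.lt_of_succ_lt h
        letI := cB ⟨i, hi⟩; letI := cBA' ⟨i, hi⟩
        haveI : IsScalarTower (𝒟.B i) (B' i) (A' (i + 1)) := u7 ⟨i, hi⟩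
        haveI : IsScalarTower (𝒟.B i) (𝒟.A (i + 1)) (A' (i + 1)) := u7' ⟨i, hi⟩
        exact H21.Devissage.BaseChange.surjective (𝒟.B i) (B' i) (𝒟.A (i + 1)) (A' (i + 1)) (hpBA' ⟨i, hi⟩ h) (𝒟.surjBA' i h)
      fpBA' := by
        intro i h
        have hi : i < n := Nat.lt_of_succ_lt h
        letI := cB ⟨i, hi⟩; letI := cBA' ⟨i, hi⟩
        haveI : IsScalarTower (𝒟.B i) (B' i) (A' (i + 1)) := u7 ⟨i, hi⟩
        haveI : IsScalarTower (𝒟.B i) (𝒟.A (i + 1)) (A' (i + 1)) := u7' ⟨i, hi⟩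
        haveI := 𝒟.fpBA' i h
        exact H21.Devissage.BaseChange.finitePresentation (𝒟.B i) (B' i) (𝒟.A (i + 1)) (A' (i + 1)) (hpBA' ⟨i, hi⟩ h)
      finiteBA := by
        intro i h
        letI := cB ⟨i, h⟩; letI := cBA ⟨i, h⟩
        haveI : IsScalarTower (𝒟.B i) (𝒟.A i) (A' i) := u5 ⟨i, h⟩
        haveI : IsScalarTower (𝒟.B i) (B' i) (A' i) := u6 ⟨i, h⟩
        haveI := 𝒟.finiteBA i h
        exact H21.Devissage.BaseChange.moduleFinite (𝒟.B i) (B' i) (𝒟.A i) (A' i) (hpBA ⟨i, h⟩)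
      smooth := fun i h => hsmooth ⟨i, h⟩
      geomIrred := fun i h => hgi ⟨i, h⟩
      finiteM := fun i h => by
        haveI := 𝒟.finiteM i h
        exact inferInstanceAs (Module.Finite (A' i) (BCMod (𝒟.A i) (A' i) (𝒟.M i)))
      isoN := isoN'
      isoCoker := fun i h => Classical.choice (hcoker i h)
      fibreIso := by
        intro i h
        letI := cB ⟨i, h⟩
        haveI : IsScalarTower R (𝒟.B i) (B' i) := u4 ⟨i, h⟩
        haveI : IsScalarTower (𝒟.B i) (B' i) (M' i) := uBM ⟨i, h⟩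
        let P := p.map (algebraMap R (𝒟.B i))
        let P' := p'.map (algebraMap R' (B' i))
        have hPP : P ≤ P'.comap (algebraMap (𝒟.B i) (B' i)) := by
          refine Ideal.map_le_iff_le_comap.mpr fun r hr => ?_
          show algebraMap (𝒟.B i) (B' i) (algebraMap R (𝒟.B i) r) ∈ P'
          rw [← IsScalarTower.algebraMap_apply R (𝒟.B i) (B' i), IsScalarTower.algebraMap_apply R R' (B' i)]
          exact Ideal.mem_map_of_mem _ ((Ideal.mem_of_liesOver p' p r).mp hr)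
        have hPP' : P = P'.comap (algebraMap (𝒟.B i) (B' i)) := by
          refine le_antisymm hPP fun x hx => ?_
          haveI := 𝒟.smooth i h
          haveI : IsScalarTower R R' (B' i) := inferInstanceAs (IsScalarTower R R' (B0 i × Q i))
          exact mem_map_of_mem_map (R' := R') p p' (hpB ⟨i, h⟩) hx
        letI : Algebra P.ResidueField P'.ResidueField :=
          (Ideal.ResidueField.map P P' (algebraMap (𝒟.B i) (B' i)) hPP').toAlgebra
        haveI : IsScalarTower (𝒟.B i) P.ResidueField P'.ResidueField := IsScalarTower.of_algebraMap_eq fun x => by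
          rw [IsScalarTower.algebraMap_apply (𝒟.B i) (B' i) P'.ResidueField]
          exact (Ideal.ResidueField.map_algebraMap ..).symm
        refine baseChange_bijective' (LinearMap.pi fun j => (Algebra.linearMap (𝒟.B i) (B' i)).comp (LinearMap.proj j))
          ?_ ((g i).restrictScalars (𝒟.B i)) (hgB ⟨i, h⟩) (𝒟.α i) (α' i) (fun y => hα ⟨i, h⟩ y) (𝒟.fibreIso i h)
        exact IsBaseChange.pi _ fun j => IsBaseChange.linearMap (𝒟.B i) (B' i)
      cokerLast := by
        have h : n - 1 < n := Nat.sub_one_lt_of_lt 𝒟.pos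
        letI := cB ⟨n - 1, h⟩
        haveI : IsScalarTower (𝒟.B (n - 1)) (B' (n - 1)) (M' (n - 1)) := uBM ⟨n - 1, h⟩
        rw [← LinearMap.range_eq_top, hrange ⟨n - 1, h⟩, LinearMap.range_eq_top.mpr 𝒟.cokerLast,
          Submodule.top_coe, Set.image_univ, eq_top_iff]
        intro m _
        induction m using (hgB ⟨n - 1, h⟩).inductionOn with
        | zero => exact zero_mem _
        | tmul x => exact Submodule.subset_span ⟨x, rfl⟩
        | smul c x hx => exact Submodule.smul_mem _ c (hx trivial)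
        | add x y hx hy => exact add_mem (hx trivial) (hy trivial) }
  refine ⟨𝒟', fun i => inferInstanceAs (Algebra (𝒟.A i) (A' i)), fun i => inferInstanceAs (Algebra R (A' i)),
    fun i => inferInstanceAs (IsScalarTower R R' (A' i)), fun i => inferInstanceAs (IsScalarTower R (𝒟.A i) (A' i)),
    cB, fun i => inferInstanceAs (Algebra R (B' i)), fun i => inferInstanceAs (IsScalarTower R R' (B' i)), u4,
    cBA, u5, u6, cBA', u7, cSA, u8, fun i => inferInstanceAs (Module (𝒟.A i) (M' i)),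
    fun i => inferInstanceAs (IsScalarTower (𝒟.A i) (A' i) (M' i)), fun i => g i, rfl, rfl, uSA, hisoN, fun i h => u7' i,
    fun i => ⟨hpA i i.2, hpB i, hgA i, hrange i⟩⟩

end Groth.Agent.H69.Shrink
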