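import Groth.Prelude.Def_FlatCA
import Groth.Agent.H22.SupportBC
import Groth.Agent.Lib.FibreDim.Basic
import Mathlib.RingTheory.LocalRing.ResidueField.Fiber
import Mathlib.RingTheory.Localization.Finiteness
import Mathlib.AlgebraicGeometry.Morphisms.Smooth
import Mathlib.AlgebraicGeometry.Geometrically.Irreducible

/-!
# Facts about localisations away from one element used in standard shrinkings
-/

set_option autoImplicit false
set_option linter.style.haveILetI false
set_option linter.unusedVariables false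
set_option backward.isDefEq.respectTransparency false
set_option backward.isDefEq.respectTransparency.types false

universe u

open TensorProduct AlgebraicGeometry CategoryTheory CategoryTheory.Limits

namespace Groth.Agent.H69.Shrink

attribute [local instance] Algebra.TensorProduct.rightAlgebra

/-- In a fibre ring every ideal is extended. -/
theorem map_comap_fiber {R S : Type u} [CommRing R] [CommRing S] [Algebra R S] (p : Ideal R) [p.IsPrime]
    (I : Ideal (p.Fiber S)) :
    (I.comap (Algebra.TensorProduct.includeRight (R := R) (A := p.ResidueField) (B := S)).toRingHom).map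
      (Algebra.TensorProduct.includeRight (R := R) (A := p.ResidueField) (B := S)).toRingHom = I := by
  refine le_antisymm Ideal.map_comap_le fun x hx => ?_
  obtain ⟨r, hr, s, e⟩ := Ideal.Fiber.exists_smul_eq_one_tmul p x
  have hu : IsUnit (algebraMap R (p.Fiber S) r) := by
    rw [IsScalarTower.algebraMap_apply R p.ResidueField (p.Fiber S)]
    refine (isUnit_iff_ne_zero.mpr fun h => hr ?_).map _
    rwa [← RingHom.mem_ker, Ideal.ker_algebraMap_residueField] at h
  rw [← Ideal.unit_mul_mem_iff_mem _ hu, ← Algebra.smul_def, e]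
  refine Ideal.mem_map_of_mem _ (Ideal.mem_comap.mpr ?_)
  show (1 : p.ResidueField) ⊗ₜ[R] s ∈ I
  rw [← e, Algebra.smul_def]
  exact Ideal.mul_mem_left _ _ hx

/-- The support of the fibre module, inside the spectrum. -/
theorem isEmbedding_fiberSupport {R S : Type u} [CommRing R] [CommRing S] [Algebra R S] (p : Ideal R)
    [p.IsPrime] (N : Type u) [AddCommGroup N] [Module S N] [Module.Finite S N] :
    Topology.IsEmbedding (fun ξ : Module.support (p.Fiber S) (FlatCA.fiberMod p S N) =>
      PrimeSpectrum.comap (algebraMap S (p.Fiber S)) ξ.1) ∧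
    Set.range (fun ξ : Module.support (p.Fiber S) (FlatCA.fiberMod p S N) =>
      PrimeSpectrum.comap (algebraMap S (p.Fiber S)) ξ.1) =
      {Q | Q ∈ Module.support S N ∧ Q.asIdeal.comap (algebraMap R S) = p} := by
  let h := PrimeSpectrum.preimageHomeomorphFiber R S ⟨p, inferInstance⟩
  have hh : ∀ ξ, PrimeSpectrum.comap (algebraMap S (p.Fiber S)) ξ = (h.symm ξ).1 := fun ξ => rfl
  have hsupp : Module.support (p.Fiber S) (FlatCA.fiberMod p S N) =
      PrimeSpectrum.comap (algebraMap S (p.Fiber S)) ⁻¹' Module.support S N :=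
    H22.SupportBC.support_baseChange (R' := p.Fiber S) N
  refine ⟨(Topology.IsEmbedding.subtypeVal.comp h.symm.isEmbedding).comp Topology.IsEmbedding.subtypeVal, ?_⟩
  ext Q
  constructor
  · rintro ⟨ξ, rfl⟩
    exact ⟨hsupp.le ξ.2, congrArg PrimeSpectrum.asIdeal (h.symm ξ.1).2⟩
  · rintro ⟨hQ, hQp⟩
    let Q' : PrimeSpectrum.comap (algebraMap R S) ⁻¹' {⟨p, inferInstance⟩} := ⟨Q, PrimeSpectrum.ext hQp⟩
    have e : PrimeSpectrum.comap (algebraMap S (p.Fiber S)) (h Q') = Q := by
      rw [hh, h.symm_apply_apply]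
    exact ⟨⟨h Q', hsupp.ge (show _ ∈ Module.support S N from e ▸ hQ)⟩, e⟩

/-- Krull dimension of the support as a topological space. -/
theorem topologicalKrullDim_support (B M : Type u) [CommRing B] [AddCommGroup M] [Module B M]
    [Module.Finite B M] : topologicalKrullDim (Module.support B M) = Module.supportDim B M := by
  have hf := PrimeSpectrum.isClosedEmbedding_comap_of_surjective (B ⧸ Module.annihilator B M)
    (algebraMap B (B ⧸ Module.annihilator B M)) Ideal.Quotient.mk_surjective
  have hr : Set.range (PrimeSpectrum.comap (algebraMap B (B ⧸ Module.annihilator B M))) =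
      Module.support B M := by
    rw [Ideal.Quotient.algebraMap_eq, range_comap_of_surjective _ _ Ideal.Quotient.mk_surjective,
      Ideal.mk_ker, Module.support_eq_zeroLocus]
  rw [Module.supportDim_eq_ringKrullDim_quotient_annihilator, ← PrimeSpectrum.topologicalKrullDim_eq_ringKrullDim]
  exact (IsHomeomorph.topologicalKrullDim_eq _
    (hf.isEmbedding.toHomeomorph.trans (Homeomorph.setCongr hr)).isHomeomorph).symm

/-- The fibre support of a localisation at one element: dimension, and local dimension at a point. -/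
theorem fibreDim_away' {R R' S S' : Type u} [CommRing R] [CommRing R'] [CommRing S] [CommRing S']
    [Algebra R R'] [Algebra R S] [Algebra R' S'] [Algebra R S'] [Algebra S S'] [IsScalarTower R R' S']
    [IsScalarTower R S S'] (g : R) [IsLocalization.Away g R'] (hX : S) [IsLocalization.Away hX S']
    (p : Ideal R) [p.IsPrime] (p' : Ideal R') [p'.IsPrime] (hp' : p'.comap (algebraMap R R') = p)
    (q : Ideal S) [q.IsPrime] (hqp : q.comap (algebraMap R S) = p)
    (q' : Ideal S') [q'.IsPrime] (hq' : q'.comap (algebraMap S S') = q)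
    (N : Type u) [AddCommGroup N] [Module S N] [Module.Finite S N]
    (N' : Type u) [AddCommGroup N'] [Module S' N'] [Module S N'] [IsScalarTower S S' N']
    (f : N →ₗ[S] N') (hf : IsBaseChange S' f) [Module.Finite S' N'] (n : ℕ)
    (h : ∃ (ξ : PrimeSpectrum (p.Fiber S)) (hξ : ξ ∈ Module.support (p.Fiber S) (FlatCA.fiberMod p S N)),
      ξ.asIdeal = FlatCA.fiberIdeal p q ∧
      FlatMor.localDim (Module.support (p.Fiber S) (FlatCA.fiberMod p S N)) ⟨ξ, hξ⟩ = n) :
    (Module.supportDim (p.Fiber S) (FlatCA.fiberMod p S N) = n →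
      Module.supportDim (p'.Fiber S') (FlatCA.fiberMod p' S' N') = n) ∧
    ∃ (ξ' : PrimeSpectrum (p'.Fiber S')) (hξ' : ξ' ∈ Module.support (p'.Fiber S') (FlatCA.fiberMod p' S' N')),
      ξ'.asIdeal = FlatCA.fiberIdeal p' q' ∧
      FlatMor.localDim (Module.support (p'.Fiber S') (FlatCA.fiberMod p' S' N')) ⟨ξ', hξ'⟩ = n := by
  obtain ⟨ξ, hξ, hξq, hξd⟩ := h
  obtain ⟨hι, hιr⟩ := isEmbedding_fiberSupport (R := R) (S := S) p N
  obtain ⟨hι', hι'r⟩ := isEmbedding_fiberSupport (R := R') (S := S') p' N'
  let A := Module.support (p.Fiber S) (FlatCA.fiberMod p S N)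
  let A' := Module.support (p'.Fiber S') (FlatCA.fiberMod p' S' N')
  let ι : A → PrimeSpectrum S := fun ξ => PrimeSpectrum.comap (algebraMap S (p.Fiber S)) ξ.1
  let ι' : A' → PrimeSpectrum S' := fun ξ => PrimeSpectrum.comap (algebraMap S' (p'.Fiber S')) ξ.1
  let c := PrimeSpectrum.comap (algebraMap S S')
  have hc : Topology.IsOpenEmbedding c := PrimeSpectrum.localization_away_isOpenEmbedding S' hX
  have hcr : Set.range c = (PrimeSpectrum.basicOpen hX : Set (PrimeSpectrum S)) :=
    PrimeSpectrum.localization_away_comap_range S' hX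
  have hp'2 : ∀ P : Ideal R', P.comap (algebraMap R R') = p → P = p' := fun P hP => by
    exact (IsLocalization.map_comap (.powers g) R' P).symm.trans
      ((congrArg (Ideal.map (algebraMap R R')) (hP.trans hp'.symm)).trans (IsLocalization.map_comap (.powers g) R' p'))
  have hsupp : Module.support S' N' = c ⁻¹' Module.support S N := by
    rw [← H22.SupportBC.support_baseChange (R' := S') N]
    exact LinearEquiv.support_eq hf.equiv.symm
  have hrange : Set.range (c ∘ ι') = Set.range ι ∩ Set.range c := by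
    rw [Set.range_comp, show Set.range ι' = _ from hι'r, show Set.range ι = _ from hιr]
    ext Q
    constructor
    · rintro ⟨P, ⟨hP, hPp⟩, rfl⟩
      refine ⟨⟨hsupp.le hP, ?_⟩, Set.mem_range_self _⟩
      show (P.asIdeal.comap (algebraMap S S')).comap (algebraMap R S) = p
      rw [Ideal.comap_comap, ← IsScalarTower.algebraMap_eq R S S', IsScalarTower.algebraMap_eq R R' S',
        ← Ideal.comap_comap, hPp, hp']
    · rintro ⟨⟨hQ, hQp⟩, P, rfl⟩
      refine ⟨P, ⟨hsupp.ge hQ, hp'2 _ ?_⟩, rfl⟩
      rw [Ideal.comap_comap, ← IsScalarTower.algebraMap_eq R R' S', IsScalarTower.algebraMap_eq R S S',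
        ← Ideal.comap_comap]
      exact hQp
  have hmem : ∀ x : A', c (ι' x) ∈ Set.range ι := fun x => (hrange.le ⟨x, rfl⟩).1
  let e := hι.toHomeomorph
  let j : A' → A := fun x => e.symm ⟨c (ι' x), hmem x⟩
  have hj : ∀ x, ι (j x) = c (ι' x) := fun x => congrArg Subtype.val (e.apply_symm_apply _)
  have hje : Topology.IsOpenEmbedding j := by
    refine ⟨(Topology.IsEmbedding.of_comp_iff hι).mp ?_, ?_⟩
    · rw [show ι ∘ j = c ∘ ι' from funext hj]
      exact hc.isEmbedding.comp hι'
    · have : Set.range j = ι ⁻¹' Set.range c := by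
        ext a
        constructor
        · rintro ⟨x, rfl⟩; exact ⟨ι' x, (hj x).symm⟩
        · intro ha
          obtain ⟨x, hx⟩ := hrange.ge ⟨Set.mem_range_self a, ha⟩
          exact ⟨x, hι.injective ((hj x).trans hx)⟩
      rw [this, hcr]
      exact (PrimeSpectrum.basicOpen hX).2.preimage hι.continuous
  have hξι : ι ⟨ξ, hξ⟩ = (⟨q, inferInstance⟩ : PrimeSpectrum S) := by
    let h0 := PrimeSpectrum.preimageHomeomorphFiber R S ⟨p, inferInstance⟩
    let Q := h0 ⟨⟨q, inferInstance⟩, PrimeSpectrum.ext hqp⟩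
    have hQ : Q.asIdeal.comap (algebraMap S (p.Fiber S)) = q :=
      congrArg PrimeSpectrum.asIdeal (congrArg Subtype.val
        (h0.symm_apply_apply ⟨⟨q, inferInstance⟩, PrimeSpectrum.ext hqp⟩))
    refine PrimeSpectrum.ext (le_antisymm ?_ ?_)
    · show ξ.asIdeal.comap (algebraMap S (p.Fiber S)) ≤ q
      rw [hξq]
      exact (Ideal.comap_mono (Ideal.map_le_iff_le_comap.mpr hQ.ge)).trans hQ.le
    · show q ≤ ξ.asIdeal.comap (algebraMap S (p.Fiber S))
      rw [hξq]
      exact Ideal.le_comap_map
  obtain ⟨x, hx⟩ : (⟨ξ, hξ⟩ : A) ∈ Set.range j := by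
    obtain ⟨x, hx⟩ := hrange.ge ⟨⟨⟨ξ, hξ⟩, rfl⟩, ⟨⟨q', inferInstance⟩, by
      rw [hξι]; exact PrimeSpectrum.ext hq'⟩⟩
    exact ⟨x, hι.injective ((hj x).trans hx)⟩
  have hxd : FlatMor.localDim A' x = n := by
    rw [← Lib.FibreDim.Basic.localDim_eq_of_isOpenEmbedding hje x, hx]
    exact hξd
  refine ⟨fun hdim => le_antisymm ?_ ?_, x.1, x.2, ?_, hxd⟩
  · haveI : Module.Finite (p.Fiber S) (FlatCA.fiberMod p S N) :=
      inferInstanceAs (Module.Finite (p.Fiber S) (p.Fiber S ⊗[S] N))
    haveI : Module.Finite (p'.Fiber S') (FlatCA.fiberMod p' S' N') :=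
      inferInstanceAs (Module.Finite (p'.Fiber S') (p'.Fiber S' ⊗[S'] N'))
    rw [← hdim, ← topologicalKrullDim_support, ← topologicalKrullDim_support]
    exact hje.isEmbedding.isInducing.topologicalKrullDim_le
  · haveI : Module.Finite (p'.Fiber S') (FlatCA.fiberMod p' S' N') :=
      inferInstanceAs (Module.Finite (p'.Fiber S') (p'.Fiber S' ⊗[S'] N'))
    rw [← topologicalKrullDim_support, ← hxd]
    exact Lib.FibreDim.Basic.localDim_le_topologicalKrullDim _
  · have hxq : ι' x = (⟨q', inferInstance⟩ : PrimeSpectrum S') :=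
      hc.injective (by rw [← hj x, hx, hξι]; exact (PrimeSpectrum.ext hq').symm)
    rw [FlatCA.fiberIdeal, ← map_comap_fiber p' x.1.asIdeal]
    exact congrArg _ (congrArg PrimeSpectrum.asIdeal hxq)

/-- The fibre support of a localisation at one element: dimension and local dimension. -/
theorem fibreDim_away {R R' S S' : Type u} [CommRing R] [CommRing R'] [CommRing S] [CommRing S']
    [Algebra R R'] [Algebra R S] [Algebra R' S'] [Algebra R S'] [Algebra S S'] [IsScalarTower R R' S']
    [IsScalarTower R S S'] (g : R) [IsLocalization.Away g R'] (hX : S) [IsLocalization.Away hX S']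
    (p : Ideal R) [p.IsPrime] (p' : Ideal R') [p'.IsPrime] (hp' : p'.comap (algebraMap R R') = p)
    (q : Ideal S) [q.IsPrime] (hqp : q.comap (algebraMap R S) = p)
    (q' : Ideal S') [q'.IsPrime] (hq' : q'.comap (algebraMap S S') = q)
    (N : Type u) [AddCommGroup N] [Module S N] [Module.Finite S N]
    (N' : Type u) [AddCommGroup N'] [Module S' N'] [Module S N'] [IsScalarTower S S' N']
    (f : N →ₗ[S] N') (hf : IsBaseChange S' f) [Module.Finite S' N'] (n : ℕ)
    (hdim : Module.supportDim (p.Fiber S) (FlatCA.fiberMod p S N) = n)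
    (h : ∃ (ξ : PrimeSpectrum (p.Fiber S)) (hξ : ξ ∈ Module.support (p.Fiber S) (FlatCA.fiberMod p S N)),
      ξ.asIdeal = FlatCA.fiberIdeal p q ∧
      FlatMor.localDim (Module.support (p.Fiber S) (FlatCA.fiberMod p S N)) ⟨ξ, hξ⟩ = n) :
    Module.supportDim (p'.Fiber S') (FlatCA.fiberMod p' S' N') = n ∧
    ∃ (ξ' : PrimeSpectrum (p'.Fiber S')) (hξ' : ξ' ∈ Module.support (p'.Fiber S') (FlatCA.fiberMod p' S' N')),
      ξ'.asIdeal = FlatCA.fiberIdeal p' q' ∧
      FlatMor.localDim (Module.support (p'.Fiber S') (FlatCA.fiberMod p' S' N')) ⟨ξ', hξ'⟩ = n :=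
  have h' := fibreDim_away' g hX p p' hp' q hqp q' hq' N N' f hf n h
  ⟨h'.1 hdim, h'.2⟩

end Groth.Agent.H69.Shrink
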