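import Groth.Agent.H69.Shrink.Complete

/-!
# Choosing the elements of a standard shrinking of a complete dévissage
-/

set_option autoImplicit false
set_option linter.style.haveILetI false
set_option linter.unusedVariables false
set_option backward.isDefEq.respectTransparency false
set_option backward.isDefEq.respectTransparency.types false

universe u

namespace Groth.Agent.H69.Shrink

variable {R S : Type u} [CommRing R] [CommRing S] [Algebra R S]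
    {N : Type u} [AddCommGroup N] [Module S N] {p : Ideal R} [p.IsPrime] {q : Ideal S} [q.IsPrime]
    (𝒟 : FlatCA.CompleteDevissage R S N p) (𝒜 : FlatCA.CompleteDevissageAt R S N p q 𝒟)

include 𝒜 in
theorem mem_qA_iff {i : ℕ} (c : 𝒟.B i) :
    algebraMap (𝒟.B i) (𝒟.A i) c ∈ 𝒜.qA i ↔ c ∈ 𝒜.qB i :=
  haveI := 𝒜.overA i
  (Ideal.mem_of_liesOver (𝒜.qA i) (𝒜.qB i) c).symm

include 𝒜 in
theorem mem_qA_succ_iff {i : ℕ} (h : i + 1 < 𝒟.n) (c : 𝒟.B i) :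
    algebraMap (𝒟.B i) (𝒟.A (i + 1)) c ∈ 𝒜.qA (i + 1) ↔ c ∈ 𝒜.qB i := by
  conv_rhs => rw [← 𝒜.qStep i h]
  rfl

include 𝒜 in
/-- Elements on the smooth algebras pulling back into given opens, step after step. -/
theorem exists_forward (u : 𝒟.A 0) (hu : u ∉ 𝒜.qA 0) :
    ∃ y : ∀ i, 𝒟.B i, (∀ i, i < 𝒟.n → y i ∉ 𝒜.qB i) ∧ u ∣ algebraMap (𝒟.B 0) (𝒟.A 0) (y 0) ∧
      ∀ i, i + 1 < 𝒟.n → algebraMap (𝒟.B i) (𝒟.A (i + 1)) (y i) ∣ algebraMap (𝒟.B (i + 1)) (𝒟.A (i + 1)) (y (i + 1)) := by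
  classical
  letI := 𝒜.hqA; letI := 𝒜.hqB; letI := 𝒜.overA
  have step : ∀ i (x : 𝒟.A i), ∃ y : 𝒟.B i, i < 𝒟.n → x ∉ 𝒜.qA i →
      y ∉ 𝒜.qB i ∧ x ∣ algebraMap (𝒟.B i) (𝒟.A i) y := by
    intro i x
    by_cases h : i < 𝒟.n ∧ x ∉ 𝒜.qA i
    · haveI := 𝒟.finiteBA i h.1
      obtain ⟨y₀, hy₀, hy₀r⟩ : ∃ y₀ : 𝒟.B i, y₀ ∉ 𝒜.qB i ∧ algebraMap (𝒟.B i) (𝒟.A i) y₀ ∈ (Ideal.span {x}).radical := by
        by_contra hcon
        push Not at hcon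
        have hle : (Ideal.span {x}).radical.comap (algebraMap (𝒟.B i) (𝒟.A i)) ≤ 𝒜.qB i := fun a ha =>
          by_contra fun hay => hcon a hay (Ideal.mem_comap.mp ha)
        obtain ⟨z₁, hz₁, hz₁p, hz₁y⟩ := Ideal.exists_ideal_over_prime_of_isIntegral (𝒜.qB i) _ hle
        have := hz₁p
        have hzz : z₁ = 𝒜.qA i := 𝒜.uniq i h.1 z₁ ⟨hz₁y.symm⟩
        exact h.2 (hzz ▸ hz₁ (Ideal.le_radical (Ideal.mem_span_singleton_self _)))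
      obtain ⟨k, hk⟩ := hy₀r
      refine ⟨y₀ ^ k, fun _ _ => ⟨fun hh => hy₀ (Ideal.IsPrime.mem_of_pow_mem inferInstance k hh), ?_⟩⟩
      rw [map_pow]
      exact Ideal.mem_span_singleton.mp hk
    · exact ⟨1, fun h1 h2 => absurd ⟨h1, h2⟩ h⟩
  choose f hf using step
  let x : ∀ i, 𝒟.A i := fun i => Nat.rec (motive := fun i => 𝒟.A i) u
    (fun i xi => algebraMap (𝒟.B i) (𝒟.A (i + 1)) (f i xi)) i
  have hx : ∀ i, i < 𝒟.n → x i ∉ 𝒜.qA i := by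
    intro i
    induction i with
    | zero => exact fun _ => hu
    | succ i ih =>
      intro h
      show algebraMap (𝒟.B i) (𝒟.A (i + 1)) (f i (x i)) ∉ _
      rw [mem_qA_succ_iff 𝒟 𝒜 h]
      exact (hf i (x i) (Nat.lt_of_succ_lt h) (ih (Nat.lt_of_succ_lt h))).1
  exact ⟨fun i => f i (x i), fun i h => (hf i (x i) h (hx i h)).1, (hf 0 u 𝒟.pos hu).2,
    fun i h => (hf (i + 1) (x (i + 1)) h (hx (i + 1) h)).2⟩

include 𝒜 in
/-- Compatible elements on the smooth algebras with prescribed last one. -/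
theorem exists_backward (w : 𝒟.B (𝒟.n - 1)) (hw : w ∉ 𝒜.qB (𝒟.n - 1)) (y : ∀ i, 𝒟.B i)
    (hwy : y (𝒟.n - 1) ∣ w)
    (hy : ∀ i, i + 1 < 𝒟.n → algebraMap (𝒟.B i) (𝒟.A (i + 1)) (y i) ∣ algebraMap (𝒟.B (i + 1)) (𝒟.A (i + 1)) (y (i + 1))) :
    ∃ b : ∀ i, 𝒟.B i, b (𝒟.n - 1) = w ∧ (∀ i, i < 𝒟.n → b i ∉ 𝒜.qB i ∧ y i ∣ b i) ∧
      ∀ i, i + 1 < 𝒟.n → algebraMap (𝒟.B i) (𝒟.A (i + 1)) (b i) = algebraMap (𝒟.B (i + 1)) (𝒟.A (i + 1)) (b (i + 1)) := by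
  classical
  suffices H : ∀ k, ∃ b : ∀ i, 𝒟.B i, b (𝒟.n - 1) = w ∧ ∀ i, 𝒟.n - 1 ≤ i + k → i < 𝒟.n →
      (b i ∉ 𝒜.qB i ∧ y i ∣ b i) ∧
      (i + 1 < 𝒟.n → algebraMap (𝒟.B i) (𝒟.A (i + 1)) (b i) = algebraMap (𝒟.B (i + 1)) (𝒟.A (i + 1)) (b (i + 1))) by
    obtain ⟨b, h1, h2⟩ := H 𝒟.n
    exact ⟨b, h1, fun i h => (h2 i (by omega) h).1, fun i h => (h2 i (by omega) (Nat.lt_of_succ_lt h)).2 h⟩
  intro k
  induction k with
  | zero =>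
    refine ⟨Function.update (fun i => 1) (𝒟.n - 1) w, Function.update_self _ _ _, fun i h1 h2 => ?_⟩
    obtain rfl : i = 𝒟.n - 1 := by omega
    rw [Function.update_self]
    exact ⟨⟨hw, hwy⟩, fun h => absurd h (by omega)⟩
  | succ k ih =>
    obtain ⟨b, hbw, hb⟩ := ih
    by_cases hk : k + 1 ≤ 𝒟.n - 1
    · obtain ⟨j, hj⟩ : ∃ j, j + (k + 1) = 𝒟.n - 1 := ⟨𝒟.n - 1 - (k + 1), by omega⟩
      have hj1 : j + 1 < 𝒟.n := by omega
      obtain ⟨⟨hbq, hby⟩, -⟩ := hb (j + 1) (by omega) hj1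
      obtain ⟨c, hc⟩ := (hy j hj1).trans ((algebraMap (𝒟.B (j + 1)) (𝒟.A (j + 1))).map_dvd hby)
      obtain ⟨v, rfl⟩ := 𝒟.surjBA' j hj1 c
      refine ⟨Function.update b j (y j * v), by rw [Function.update_of_ne (by omega), hbw], fun i h1 h2 => ?_⟩
      by_cases hij : i = j
      · subst hij
        rw [Function.update_self, Function.update_of_ne (by omega)]
        have e : algebraMap (𝒟.B i) (𝒟.A (i + 1)) (y i * v) = algebraMap (𝒟.B (i + 1)) (𝒟.A (i + 1)) (b (i + 1)) := by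
          rw [map_mul]; exact hc.symm
        refine ⟨⟨fun hh => hbq ?_, dvd_mul_right _ _⟩, fun _ => e⟩
        rw [← mem_qA_iff 𝒟 𝒜, ← e]
        exact (mem_qA_succ_iff 𝒟 𝒜 hj1 _).mpr hh
      · rw [Function.update_of_ne hij, Function.update_of_ne (by omega)]
        exact hb i (by omega) h2
    · exact ⟨b, hbw, fun i h1 h2 => hb i (by omega) h2⟩

include 𝒜 in
/-- A common basic open of the base under a family of basic opens of the smooth algebras. -/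
theorem exists_base_open (b : ∀ i, 𝒟.B i) (hb : ∀ i, i < 𝒟.n → b i ∉ 𝒜.qB i) :
    ∃ g : R, g ∉ p ∧ (∀ i, i < 𝒟.n → b i * algebraMap R (𝒟.B i) g ∉ 𝒜.qB i) ∧
      ∀ i, i < 𝒟.n → ∀ P : PrimeSpectrum R, g ∉ P.asIdeal →
        ∃ Q : PrimeSpectrum (𝒟.B i), b i * algebraMap R (𝒟.B i) g ∉ Q.asIdeal ∧
          PrimeSpectrum.comap (algebraMap R (𝒟.B i)) Q = P := by
  classical
  letI := 𝒜.hqB; letI := 𝒜.overB
  have h : ∀ i, ∃ g : R, g ∉ p ∧ (i < 𝒟.n → ∀ P : PrimeSpectrum R, g ∉ P.asIdeal →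
      ∃ Q : PrimeSpectrum (𝒟.B i), b i ∉ Q.asIdeal ∧ PrimeSpectrum.comap (algebraMap R (𝒟.B i)) Q = P) := by
    intro i
    by_cases h : i < 𝒟.n
    · obtain ⟨g, hg, hgi⟩ := exists_basicOpen_le_image (𝒜.d i) (𝒜.relDim i h) p (𝒜.qB i) (b i) (hb i h)
      exact ⟨g, hg, fun _ => hgi⟩
    · exact ⟨1, fun h1 => Ideal.IsPrime.ne_top inferInstance ((Ideal.eq_top_iff_one _).2 h1), fun h' => absurd h' h⟩
  choose g hg hgi using h
  let G := ∏ i ∈ Finset.range 𝒟.n, g i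
  have hG : G ∉ p := fun hh => by
    obtain ⟨i, -, hi⟩ := (Ideal.IsPrime.prod_mem_iff (hp := inferInstance)).mp hh
    exact hg i hi
  refine ⟨G, hG, fun i h hh => ((Ideal.IsPrime.mem_or_mem inferInstance hh).elim (hb i h) fun h' =>
    hG ((Ideal.mem_of_liesOver (𝒜.qB i) p G).mpr h')), fun i h P hP => ?_⟩
  obtain ⟨Q, hQ, hQP⟩ := hgi i h P fun h' => hP (Ideal.mem_of_dvd _ (Finset.dvd_prod_of_mem g (Finset.mem_range.mpr h)) h')
  refine ⟨Q, fun hh => (Q.2.mem_or_mem hh).elim hQ fun h' => hP ?_, hQP⟩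
  rw [← hQP]
  exact h'

end Groth.Agent.H69.Shrink
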