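import Groth.Agent.H69.Shrink.Gen
import Mathlib.RingTheory.TensorProduct.IsBaseChangePi
import Mathlib.RingTheory.RingHom.Smooth

/-!
# Standard shrinkings of a complete dévissage

The tail of the data beyond the length is replaced by a residue field, so that the points exist at
every index.
-/

set_option autoImplicit false
set_option linter.style.haveILetI false
set_option linter.unusedVariables false
set_option linter.style.longLine false
set_option backward.isDefEq.respectTransparency false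
set_option backward.isDefEq.respectTransparency.types false

universe u

open TensorProduct AlgebraicGeometry CategoryTheory CategoryTheory.Limits

namespace Groth.Agent.H69.Shrink

theorem subsingleton_away {B : Type u} [CommRing B] {x : B} (hx : x = 0) :
    Subsingleton (Localization.Away x) := by
  subst hx
  have h : IsUnit (algebraMap B (Localization.Away (0 : B)) 0) := IsLocalization.Away.algebraMap_isUnit 0
  rw [map_zero, isUnit_zero_iff] at h
  exact subsingleton_of_zero_eq_one h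

set_option maxHeartbeats 1600000 in
/-- A standard shrinking of a complete dévissage at a point. -/
theorem complete
    (R S : Type u) [CommRing R] [CommRing S] [Algebra R S] [Algebra.FiniteType R S]
    (N : Type u) [AddCommGroup N] [Module S N] [Module.Finite S N]
    (p : Ideal R) [p.IsPrime] (q : Ideal S) [q.IsPrime] (𝒟 : FlatCA.CompleteDevissage R S N p)
    (𝒜 : FlatCA.CompleteDevissageAt R S N p q 𝒟)
    (g : R) (hg : g ∉ p) (hX : S) (hgX : algebraMap R S g ∣ hX) (b : ∀ i, 𝒟.B i)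
    (hb : ∀ i, i < 𝒟.n → b i ∉ 𝒜.qB i) (hgb : ∀ i, i < 𝒟.n → algebraMap R (𝒟.B i) g ∣ b i)
    (hchain : ∀ i, i + 1 < 𝒟.n →
      algebraMap (𝒟.B i) (𝒟.A (i + 1)) (b i) = algebraMap (𝒟.B (i + 1)) (𝒟.A (i + 1)) (b (i + 1)))
    (h0 : algebraMap S (𝒟.A 0) hX = algebraMap (𝒟.B 0) (𝒟.A 0) (b 0))
    (hsurj : ∀ i, i < 𝒟.n → ∀ P : PrimeSpectrum R, g ∉ P.asIdeal →
      ∃ Q : PrimeSpectrum (𝒟.B i), b i ∉ Q.asIdeal ∧ PrimeSpectrum.comap (algebraMap R (𝒟.B i)) Q = P) :
    hX ∉ q ∧
      ∃ (_ : Algebra (Localization.Away g) (Localization.Away hX)) (_ : IsScalarTower R (Localization.Away g) (Localization.Away hX))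
        (_ : Module (Localization.Away g) (LocalizedModule (Submonoid.powers hX) N)) (_ : IsScalarTower (Localization.Away g) (Localization.Away hX) (LocalizedModule (Submonoid.powers hX) N))
        (_ : (Ideal.map (algebraMap R (Localization.Away g)) p).IsPrime) (_ : (Ideal.map (algebraMap S (Localization.Away hX)) q).IsPrime)
        (𝒟' : FlatCA.CompleteDevissage (Localization.Away g) (Localization.Away hX) (LocalizedModule (Submonoid.powers hX) N) (Ideal.map (algebraMap R (Localization.Away g)) p))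
        (𝒜' : FlatCA.CompleteDevissageAt (Localization.Away g) (Localization.Away hX) (LocalizedModule (Submonoid.powers hX) N) (Ideal.map (algebraMap R (Localization.Away g)) p) (Ideal.map (algebraMap S (Localization.Away hX)) q) 𝒟')
        (a : ∀ i : Fin 𝒟.n, 𝒟.A i) (b' : ∀ i : Fin 𝒟.n, 𝒟.B i)
      (aA : ∀ i : Fin 𝒟.n, Algebra (𝒟.A i) (𝒟'.A i)) (rA : ∀ i : Fin 𝒟.n, Algebra R (𝒟'.A i))
      (_t1 : ∀ i : Fin 𝒟.n, IsScalarTower R (Localization.Away g) (𝒟'.A i)) (_t2 : ∀ i : Fin 𝒟.n, IsScalarTower R (𝒟.A i) (𝒟'.A i))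
      (aB : ∀ i : Fin 𝒟.n, Algebra (𝒟.B i) (𝒟'.B i)) (rB : ∀ i : Fin 𝒟.n, Algebra R (𝒟'.B i))
      (_t3 : ∀ i : Fin 𝒟.n, IsScalarTower R (Localization.Away g) (𝒟'.B i)) (_t4 : ∀ i : Fin 𝒟.n, IsScalarTower R (𝒟.B i) (𝒟'.B i))
      (bA : ∀ i : Fin 𝒟.n, Algebra (𝒟.B i) (𝒟'.A i)) (_t5 : ∀ i : Fin 𝒟.n, IsScalarTower (𝒟.B i) (𝒟.A i) (𝒟'.A i))
      (_t6 : ∀ i : Fin 𝒟.n, IsScalarTower (𝒟.B i) (𝒟'.B i) (𝒟'.A i))
      (bA' : ∀ i : Fin 𝒟.n, Algebra (𝒟.B i) (𝒟'.A (i + 1)))
      (_t7 : ∀ i : Fin 𝒟.n, IsScalarTower (𝒟.B i) (𝒟'.B i) (𝒟'.A (i + 1)))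
      (sA : Algebra S (𝒟'.A 0)) (_t8 : IsScalarTower S (Localization.Away hX) (𝒟'.A 0))
      (mA : ∀ i : Fin 𝒟.n, Module (𝒟.A i) (𝒟'.M i)) (_t9 : ∀ i : Fin 𝒟.n, IsScalarTower (𝒟.A i) (𝒟'.A i) (𝒟'.M i))
      (gM : ∀ i : Fin 𝒟.n, 𝒟.M i →ₗ[𝒟.A i] 𝒟'.M i),
        b' = (fun i : Fin 𝒟.n => b i) ∧
        𝒟'.n = 𝒟.n ∧ 𝒟'.r = 𝒟.r ∧ 𝒜'.d = 𝒜.d ∧
        (letI := aA ⟨0, 𝒟.pos⟩; IsScalarTower S (𝒟.A 0) (𝒟'.A 0)) ∧
      (∀ x : N, 𝒟'.isoN (LocalizedModule.mkLinearMap (Submonoid.powers hX) N x) = gM ⟨0, 𝒟.pos⟩ (𝒟.isoN x)) ∧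
      (∀ (i : Fin 𝒟.n) (h : (i : ℕ) + 1 < 𝒟.n),
        letI := aA ⟨i + 1, h⟩; IsScalarTower (𝒟.B i) (𝒟.A (i + 1)) (𝒟'.A (i + 1))) ∧
        ∀ i : Fin 𝒟.n,
          a i ∉ 𝒜.qA i ∧ b' i ∉ 𝒜.qB i ∧
          IsLocalization.Away (a i) (𝒟'.A i) ∧ IsLocalization.Away (b' i) (𝒟'.B i) ∧
          IsLocalizedModule (Submonoid.powers (a i)) (gM i) ∧
          (𝒜'.qA i).LiesOver (𝒜.qA i) ∧ (𝒜'.qB i).LiesOver (𝒜.qB i) ∧
          LinearMap.range (𝒟'.α i) =
            Submodule.span (𝒟'.B i) ((gM i) '' (LinearMap.range (𝒟.α i) : Set (𝒟.M i))) := by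
  classical
  letI := 𝒜.hqA; letI := 𝒜.hqB; letI := 𝒜.overA; letI := 𝒜.overB
  haveI hP0 : p.IsPrime := inferInstance
  let n := 𝒟.n
  let b₀ : ∀ i, 𝒟.B i := fun i => if i < n then b i else 0
  have hb₀ : ∀ i, i < n → b₀ i = b i := fun i h => if_pos h
  have hb₀' : ∀ i, ¬ i < n → b₀ i = 0 := fun i h => if_neg h
  let a : ∀ i, 𝒟.A i := fun i => algebraMap (𝒟.B i) (𝒟.A i) (b₀ i)
  have haq : ∀ i, i < n → a i ∉ 𝒜.qA i := fun i h hh => hb i h (by
    rw [← hb₀ i h]; exact (Ideal.mem_of_liesOver (𝒜.qA i) (𝒜.qB i) _).mpr hh)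
  have hXa : algebraMap S (𝒟.A 0) hX = a 0 := by simp only [a, hb₀ 0 𝒟.pos, h0]
  have hXq : hX ∉ q := fun hh => haq 0 𝒟.pos (by
    rw [← hXa]; rw [← 𝒜.q0] at hh; exact hh)
  refine ⟨hXq, ?_⟩
  -- the base
  let R' := Localization.Away g
  let S' := Localization.Away hX
  let p' : Ideal R' := p.map (algebraMap R R')
  obtain ⟨hp'p, hp'c⟩ := map_away g p hg
  obtain ⟨hq'p, hq'c⟩ := map_away hX q hXq
  haveI := hp'p; haveI := hq'p
  have huX : IsUnit (algebraMap R S' g) := by
    rw [IsScalarTower.algebraMap_apply R S S']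
    obtain ⟨c, hc⟩ := hgX
    exact isUnit_of_dvd_unit ⟨algebraMap S S' c, by rw [← map_mul, ← hc]⟩ (IsLocalization.Away.algebraMap_isUnit hX)
  letI a1 : Algebra R' S' := (awayMap g hX huX).toAlgebra
  haveI t1 : IsScalarTower R R' S' := IsScalarTower.of_algebraMap_eq' (awayMap_comp g hX huX).symm
  let N' := LocalizedModule (Submonoid.powers hX) N
  letI m1 : Module R' N' := Module.compHom N' (algebraMap R' S')
  haveI t8 : IsScalarTower R' S' N' := IsScalarTower.of_compHom R' S' N'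
  -- the residue field of the tail
  obtain ⟨L, instL, instAL, χ, hχR, hχq⟩ : ∃ (L : Type u) (_ : Field L) (_ : Algebra R L)
      (χ : 𝒟.B (n - 1) →+* L), χ.comp (algebraMap R (𝒟.B (n - 1))) = algebraMap R L ∧
        RingHom.ker χ = 𝒜.qB (n - 1) :=
    ⟨(𝒜.qB (n - 1)).ResidueField, inferInstance, inferInstance, algebraMap _ _,
      (IsScalarTower.algebraMap_eq _ _ _).symm, Ideal.ker_algebraMap_residueField _⟩
  have hpL : ∀ r : R, algebraMap R L r = 0 ↔ r ∈ p := fun r => by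
    rw [← hχR, RingHom.comp_apply, ← RingHom.mem_ker, hχq]
    exact (Ideal.mem_of_liesOver (𝒜.qB (n - 1)) p r).symm
  letI aL : Algebra R' L :=
    (IsLocalization.Away.lift g (isUnit_iff_ne_zero.mpr fun h => hg ((hpL g).mp h) : IsUnit (algebraMap R L g))).toAlgebra
  haveI tL : IsScalarTower R R' L := IsScalarTower.of_algebraMap_eq' (IsLocalization.Away.lift_comp g _).symm
  let J : ℕ → Ideal L := fun i => if i < n then ⊤ else ⊥
  let Q : ℕ → Type u := fun i => L ⧸ J i
  have hQ : ∀ i, i < n → Subsingleton (Q i) := fun i h => Ideal.Quotient.subsingleton_iff.mpr (if_pos h)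
  haveI tQ : ∀ i, IsScalarTower R R' (Q i) := fun i => IsScalarTower.of_algebraMap_eq fun r => by
    show Ideal.Quotient.mk (J i) (algebraMap R L r) = Ideal.Quotient.mk (J i) (algebraMap R' L (algebraMap R R' r))
    rw [← IsScalarTower.algebraMap_apply R R' L]
  let B0 : ℕ → Type u := fun i => Localization.Away (b₀ i)
  let A0 : ℕ → Type u := fun i => Localization.Away (a i)
  have hA0 : ∀ i, ¬ i < n → Subsingleton (A0 i) := fun i h =>
    subsingleton_away (show a i = 0 by simp only [a, hb₀' i h, map_zero])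
  have hB0 : ∀ i, ¬ i < n → Subsingleton (B0 i) := fun i h => subsingleton_away (hb₀' i h)
  have hgb₀ : ∀ i, algebraMap R (𝒟.B i) g ∣ b₀ i := fun i => by
    by_cases h : i < n
    · rw [hb₀ i h]; exact hgb i h
    · rw [hb₀' i h]; exact dvd_zero _
  have huB : ∀ i, IsUnit (algebraMap R (B0 i) g) := fun i => by
    rw [IsScalarTower.algebraMap_apply R (𝒟.B i) (B0 i)]
    exact isUnit_of_dvd_unit ((algebraMap (𝒟.B i) (B0 i)).map_dvd (hgb₀ i)) (IsLocalization.Away.algebraMap_isUnit (b₀ i))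
  have huA : ∀ i, IsUnit (algebraMap R (A0 i) g) := fun i => by
    rw [IsScalarTower.algebraMap_apply R (𝒟.A i) (A0 i), IsScalarTower.algebraMap_apply R (𝒟.B i) (𝒟.A i)]
    exact isUnit_of_dvd_unit ((algebraMap (𝒟.A i) (A0 i)).map_dvd ((algebraMap (𝒟.B i) (𝒟.A i)).map_dvd (hgb₀ i)))
      (IsLocalization.Away.algebraMap_isUnit (a i))
  letI aB0 : ∀ i, Algebra R' (B0 i) := fun i => (awayMap g (b₀ i) (huB i)).toAlgebra
  letI aA0 : ∀ i, Algebra R' (A0 i) := fun i => (awayMap g (a i) (huA i)).toAlgebra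
  haveI tB0 : ∀ i, IsScalarTower R R' (B0 i) := fun i => IsScalarTower.of_algebraMap_eq' (awayMap_comp g (b₀ i) (huB i)).symm
  haveI tA0 : ∀ i, IsScalarTower R R' (A0 i) := fun i => IsScalarTower.of_algebraMap_eq' (awayMap_comp g (a i) (huA i)).symm
  have hu1 : ∀ i, IsUnit ((algebraMap (𝒟.A i) (A0 i)).comp (algebraMap (𝒟.B i) (𝒟.A i)) (b₀ i)) :=
    fun i => IsLocalization.Away.algebraMap_isUnit (a i)
  have hu2 : ∀ i, IsUnit ((algebraMap (𝒟.A (i + 1)) (A0 (i + 1))).comp (algebraMap (𝒟.B i) (𝒟.A (i + 1))) (b₀ i)) :=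
    fun i => by
      by_cases h : i + 1 < n
      · rw [RingHom.comp_apply, hb₀ i (Nat.lt_of_succ_lt h), hchain i h, ← hb₀ (i + 1) h]
        exact IsLocalization.Away.algebraMap_isUnit (a (i + 1))
      · haveI := hA0 (i + 1) h
        exact isUnit_of_subsingleton _
  let step : ∀ i, B0 i →+* A0 i := fun i => IsLocalization.Away.lift (b₀ i) (hu1 i)
  let step' : ∀ i, B0 i →+* A0 (i + 1) := fun i => IsLocalization.Away.lift (b₀ i) (hu2 i)
  have hstep : ∀ i c, step i (algebraMap (𝒟.B i) (B0 i) c) = algebraMap (𝒟.A i) (A0 i) (algebraMap (𝒟.B i) (𝒟.A i) c) :=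
    fun i c => RingHom.congr_fun (IsLocalization.Away.lift_comp (b₀ i) (hu1 i)) c
  have hstep' : ∀ i c, step' i (algebraMap (𝒟.B i) (B0 i) c) =
      algebraMap (𝒟.A (i + 1)) (A0 (i + 1)) (algebraMap (𝒟.B i) (𝒟.A (i + 1)) c) :=
    fun i c => RingHom.congr_fun (IsLocalization.Away.lift_comp (b₀ i) (hu2 i)) c
  have hsR : ∀ i, (step i).comp (algebraMap R' (B0 i)) = algebraMap R' (A0 i) := fun i =>
    IsLocalization.ringHom_ext (.powers g) <| RingHom.ext fun r => by
      show step i (algebraMap R' (B0 i) (algebraMap R R' r)) = algebraMap R' (A0 i) (algebraMap R R' r)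
      rw [← IsScalarTower.algebraMap_apply R R' (B0 i), ← IsScalarTower.algebraMap_apply R R' (A0 i),
        IsScalarTower.algebraMap_apply R (𝒟.B i) (B0 i), hstep, IsScalarTower.algebraMap_apply R (𝒟.A i) (A0 i),
        IsScalarTower.algebraMap_apply R (𝒟.B i) (𝒟.A i)]
  have hsR' : ∀ i, (step' i).comp (algebraMap R' (B0 i)) = algebraMap R' (A0 (i + 1)) := fun i =>
    IsLocalization.ringHom_ext (.powers g) <| RingHom.ext fun r => by
      show step' i (algebraMap R' (B0 i) (algebraMap R R' r)) = algebraMap R' (A0 (i + 1)) (algebraMap R R' r)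
      rw [← IsScalarTower.algebraMap_apply R R' (B0 i), ← IsScalarTower.algebraMap_apply R R' (A0 (i + 1)),
        IsScalarTower.algebraMap_apply R (𝒟.B i) (B0 i), hstep', IsScalarTower.algebraMap_apply R (𝒟.A (i + 1)) (A0 (i + 1)),
        IsScalarTower.algebraMap_apply R (𝒟.B i) (𝒟.A (i + 1))]
  let A' : ℕ → Type u := fun i => A0 i × Q i
  let B' : ℕ → Type u := fun i => B0 i × Q i
  have hψ : ∀ i, ∃ ψ : B' i →+* Q (i + 1), ψ.comp (algebraMap R' (B' i)) = algebraMap R' (Q (i + 1)) := by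
    intro i
    by_cases h : i + 1 < n
    · haveI := hQ (i + 1) h
      exact ⟨trivHom _ _, RingHom.ext fun _ => Subsingleton.elim _ _⟩
    by_cases h' : i < n
    · obtain rfl : i = n - 1 := by omega
      have hu : IsUnit (χ (b₀ (n - 1))) := by
        rw [isUnit_iff_ne_zero, ne_eq, ← RingHom.mem_ker, hχq, hb₀ _ h']
        exact hb _ h'
      refine ⟨((Ideal.Quotient.mk (J (n - 1 + 1))).comp (IsLocalization.Away.lift (b₀ (n - 1)) hu)).comp
        (RingHom.fst _ _), IsLocalization.ringHom_ext (.powers g) (RingHom.ext fun r => ?_)⟩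
      show Ideal.Quotient.mk _ (IsLocalization.Away.lift (b₀ (n - 1)) hu (algebraMap R' (B0 (n - 1)) (algebraMap R R' r))) =
        Ideal.Quotient.mk _ (algebraMap R' L (algebraMap R R' r))
      rw [← IsScalarTower.algebraMap_apply R R' (B0 (n - 1)), IsScalarTower.algebraMap_apply R (𝒟.B (n - 1)) (B0 (n - 1)),
        IsLocalization.Away.lift_eq, ← IsScalarTower.algebraMap_apply R R' L, ← hχR, RingHom.comp_apply]
    · exact ⟨(Ideal.Quotient.factor (show J i ≤ J (i + 1) by simp [J, h', h])).comp (RingHom.snd _ _),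
        RingHom.ext fun _ => rfl⟩
  choose ψ hψ using hψ
  letI aBA : ∀ i, Algebra (B' i) (A' i) := fun i => (RingHom.prodMap (step i) (RingHom.id (Q i))).toAlgebra
  letI aBA' : ∀ i, Algebra (B' i) (A' (i + 1)) := fun i =>
    (RingHom.prod ((step' i).comp (RingHom.fst _ _)) (ψ i)).toAlgebra
  haveI tBA : ∀ i, IsScalarTower R' (B' i) (A' i) := fun i => IsScalarTower.of_algebraMap_eq fun r =>
    Prod.ext (RingHom.congr_fun (hsR i) r).symm rfl
  haveI tBA' : ∀ i, IsScalarTower R' (B' i) (A' (i + 1)) := fun i => IsScalarTower.of_algebraMap_eq fun r =>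
    Prod.ext (RingHom.congr_fun (hsR' i) r).symm (RingHom.congr_fun (hψ i) r).symm
  have huS : IsUnit ((algebraMap (𝒟.A 0) (A0 0)).comp (algebraMap S (𝒟.A 0)) hX) := by
    rw [RingHom.comp_apply, hXa]; exact IsLocalization.Away.algebraMap_isUnit (a 0)
  let sc : S' →+* A0 0 := IsLocalization.Away.lift hX huS
  have hsc : ∀ x, sc (algebraMap S S' x) = algebraMap (𝒟.A 0) (A0 0) (algebraMap S (𝒟.A 0) x) := fun x =>
    RingHom.congr_fun (IsLocalization.Away.lift_comp hX huS) x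
  haveI hQ0 : Subsingleton (Q 0) := hQ 0 𝒟.pos
  letI aSA : Algebra S' (A' 0) := (RingHom.prod sc (trivHom S' (Q 0))).toAlgebra
  haveI tSA : IsScalarTower R' S' (A' 0) := IsScalarTower.of_algebraMap_eq' <|
    IsLocalization.ringHom_ext (.powers g) <| RingHom.ext fun r => Prod.ext (by
      show algebraMap R' (A0 0) (algebraMap R R' r) = sc (algebraMap R' S' (algebraMap R R' r))
      rw [← IsScalarTower.algebraMap_apply R R' (A0 0), ← IsScalarTower.algebraMap_apply R R' S',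
        IsScalarTower.algebraMap_apply R S S', hsc, ← IsScalarTower.algebraMap_apply R S (𝒟.A 0),
        ← IsScalarTower.algebraMap_apply R (𝒟.A 0) (A0 0)]) (Subsingleton.elim _ _)
  let M' : ℕ → Type u := fun i => LocalizedModule (Submonoid.powers (a i)) (𝒟.M i)
  letI mA' : ∀ i, Module (A' i) (M' i) := fun i => Module.compHom (M' i) (RingHom.fst (A0 i) (Q i))
  letI mB' : ∀ i, Module (B' i) (M' i) := fun i => Module.compHom (M' i) (algebraMap (B' i) (A' i))
  haveI tBAM : ∀ i, IsScalarTower (B' i) (A' i) (M' i) := fun i => IsScalarTower.of_compHom (B' i) (A' i) (M' i)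
  letI mR' : ∀ i, Module R' (M' i) := fun i => Module.compHom (M' i) (algebraMap R' (B' i))
  haveI tRBM : ∀ i, IsScalarTower R' (B' i) (M' i) := fun i => IsScalarTower.of_compHom R' (B' i) (M' i)
  letI mBn : ∀ i, Module (B' i) (M' (i + 1)) := fun i => Module.compHom (M' (i + 1)) (algebraMap (B' i) (A' (i + 1)))
  haveI tBnAM : ∀ i, IsScalarTower (B' i) (A' (i + 1)) (M' (i + 1)) := fun i =>
    IsScalarTower.of_compHom (B' i) (A' (i + 1)) (M' (i + 1))
  letI mS' : Module S' (M' 0) := Module.compHom (M' 0) (algebraMap S' (A' 0))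
  haveI tSAM : IsScalarTower S' (A' 0) (M' 0) := IsScalarTower.of_compHom S' (A' 0) (M' 0)
  -- the maps from the original data
  letI cA : ∀ i : Fin n, Algebra (𝒟.A i) (A' i) := fun i =>
    haveI := hQ i i.2
    (RingHom.prod (algebraMap (𝒟.A i) (A0 i)) (trivHom (𝒟.A i) (Q i))).toAlgebra
  letI cB : ∀ i : Fin n, Algebra (𝒟.B i) (B' i) := fun i =>
    haveI := hQ i i.2
    (RingHom.prod (algebraMap (𝒟.B i) (B0 i)) (trivHom (𝒟.B i) (Q i))).toAlgebra
  haveI hQi : ∀ i : Fin n, Subsingleton (Q i) := fun i => hQ i i.2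
  haveI locA : ∀ i : Fin n, IsLocalization.Away (a i) (A' i) := fun i =>
    isLocalization_prod (L := A0 i) (fun _ => rfl) (Submonoid.powers (a i))
  haveI locB : ∀ i : Fin n, IsLocalization.Away (b₀ i) (B' i) := fun i =>
    isLocalization_prod (L := B0 i) (fun _ => rfl) (Submonoid.powers (b₀ i))
  haveI u1 : ∀ i : Fin n, IsScalarTower R R' (A' i) := fun i => IsScalarTower.of_algebraMap_eq fun r =>
    Prod.ext (IsScalarTower.algebraMap_apply R R' (A0 i) r) (Subsingleton.elim _ _)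
  haveI u2 : ∀ i : Fin n, IsScalarTower R (𝒟.A i) (A' i) := fun i => IsScalarTower.of_algebraMap_eq fun r =>
    Prod.ext (IsScalarTower.algebraMap_apply R (𝒟.A i) (A0 i) r) (Subsingleton.elim _ _)
  haveI u3 : ∀ i : Fin n, IsScalarTower R R' (B' i) := fun i => IsScalarTower.of_algebraMap_eq fun r =>
    Prod.ext (IsScalarTower.algebraMap_apply R R' (B0 i) r) (Subsingleton.elim _ _)
  haveI u4 : ∀ i : Fin n, IsScalarTower R (𝒟.B i) (B' i) := fun i => IsScalarTower.of_algebraMap_eq fun r =>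
    Prod.ext (IsScalarTower.algebraMap_apply R (𝒟.B i) (B0 i) r) (Subsingleton.elim _ _)
  letI cBA : ∀ i : Fin n, Algebra (𝒟.B i) (A' i) := fun i =>
    ((algebraMap (𝒟.A i) (A' i)).comp (algebraMap (𝒟.B i) (𝒟.A i))).toAlgebra
  haveI u5 : ∀ i : Fin n, IsScalarTower (𝒟.B i) (𝒟.A i) (A' i) := fun i => IsScalarTower.of_algebraMap_eq fun _ => rfl
  haveI u6 : ∀ i : Fin n, IsScalarTower (𝒟.B i) (B' i) (A' i) := fun i => IsScalarTower.of_algebraMap_eq fun c =>
    Prod.ext (hstep i c).symm (Subsingleton.elim _ _)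
  letI cBA' : ∀ i : Fin n, Algebra (𝒟.B i) (A' (i + 1)) := fun i =>
    ((algebraMap (B' i) (A' (i + 1))).comp (algebraMap (𝒟.B i) (B' i))).toAlgebra
  haveI u7 : ∀ i : Fin n, IsScalarTower (𝒟.B i) (B' i) (A' (i + 1)) := fun i => IsScalarTower.of_algebraMap_eq fun _ => rfl
  letI cSA : Algebra S (A' 0) := ((algebraMap S' (A' 0)).comp (algebraMap S S')).toAlgebra
  haveI u8 : IsScalarTower S S' (A' 0) := IsScalarTower.of_algebraMap_eq fun _ => rfl
  haveI u9 : ∀ i : Fin n, IsScalarTower (𝒟.A i) (A' i) (M' i) := fun i => ⟨fun x y m => by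
    show (algebraMap (𝒟.A i) (A0 i) x * y.1) • m = x • y.1 • m
    rw [mul_smul, IsScalarTower.algebraMap_smul]⟩
  let gM : ∀ i : Fin n, 𝒟.M i →ₗ[𝒟.A i] M' i := fun i => LocalizedModule.mkLinearMap (Submonoid.powers (a i)) (𝒟.M i)
  haveI uBM : ∀ i : Fin n, IsScalarTower (𝒟.B i) (B' i) (M' i) := fun i => ⟨fun x y m => by
    show (step i ((algebraMap (𝒟.B i) (B0 i) x) * y.1)) • m = x • step i y.1 • m
    rw [map_mul, hstep, mul_smul, IsScalarTower.algebraMap_smul, IsScalarTower.algebraMap_smul]⟩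
  haveI lMB : ∀ i : Fin n, IsLocalizedModule (Submonoid.powers (b₀ i)) ((gM i).restrictScalars (𝒟.B i)) :=
    fun i => isLocalizedModule_restrict (b₀ i) (a i) rfl (gM i)
  -- ranges
  let v : ∀ i, Fin (𝒟.r i) → M' i := fun i j =>
    LocalizedModule.mkLinearMap (Submonoid.powers (a i)) (𝒟.M i) (𝒟.α i (Pi.single j 1))
  let α' : ∀ i, (Fin (𝒟.r i) → B' i) →ₗ[B' i] M' i := fun i => Fintype.linearCombination (B' i) (v i)
  have hα : ∀ (i : Fin n) (y : Fin (𝒟.r i) → 𝒟.B i),
      α' i (fun j => algebraMap (𝒟.B i) (B' i) (y j)) = (gM i).restrictScalars (𝒟.B i) (𝒟.α i y) := by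
    intro i y
    conv_rhs => rw [show y = ∑ j, y j • (Pi.single j (1 : 𝒟.B i)) from pi_eq_sum_univ' y]
    simp only [map_sum, map_smul]
    refine (Fintype.linearCombination_apply (B' i) (v i) _).trans (Finset.sum_congr rfl fun j _ => ?_)
    exact IsScalarTower.algebraMap_smul (B' i) (y j) (v i j)
  have hrange : ∀ i : Fin n, LinearMap.range (α' i) =
      Submodule.span (B' i) ((gM i) '' (LinearMap.range (𝒟.α i) : Set (𝒟.M i))) := by
    intro i
    refine le_antisymm ?_ ?_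
    · rw [Fintype.range_linearCombination, Submodule.span_le]
      rintro _ ⟨j, rfl⟩
      exact Submodule.subset_span ⟨_, LinearMap.mem_range_self _ _, rfl⟩
    · rw [Submodule.span_le]
      rintro _ ⟨_, ⟨y, rfl⟩, rfl⟩
      exact ⟨_, hα i y⟩
  -- first module
  have uSA : letI := cA ⟨0, 𝒟.pos⟩; IsScalarTower S (𝒟.A 0) (A' 0) := by
    letI := cA ⟨0, 𝒟.pos⟩
    exact IsScalarTower.of_algebraMap_eq fun x => Prod.ext (hsc x) (Subsingleton.elim _ _)
  haveI uSM : IsScalarTower S S' (M' 0) := ⟨fun x y m => by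
    show sc (x • y) • m = x • sc y • m
    rw [Algebra.smul_def, map_mul, hsc, mul_smul, IsScalarTower.algebraMap_smul, IsScalarTower.algebraMap_smul]⟩
  let f0 : N →ₗ[S] M' 0 :=
    ((LocalizedModule.mkLinearMap (Submonoid.powers (a 0)) (𝒟.M 0)).restrictScalars S).comp 𝒟.isoN.toLinearMap
  haveI : IsLocalizedModule (Submonoid.powers hX) f0 := by
    haveI := isLocalizedModule_restrict hX (a 0) hXa (LocalizedModule.mkLinearMap (Submonoid.powers (a 0)) (𝒟.M 0))
    exact IsLocalizedModule.of_linearEquiv_right (Submonoid.powers hX) _ 𝒟.isoN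
  let isoN' : N' ≃ₗ[S'] M' 0 :=
    (IsLocalizedModule.iso (Submonoid.powers hX) f0).extendScalarsOfIsLocalization (Submonoid.powers hX) S'
  -- cokernels
  have hcoker : ∀ i, i + 1 < n → Nonempty ((M' i ⧸ LinearMap.range (α' i)) ≃ₗ[B' i] M' (i + 1)) := by
    intro i h
    have hi : i < n := Nat.lt_of_succ_lt h
    letI := cB ⟨i, hi⟩
    haveI : IsLocalization.Away (b₀ i) (B' i) := locB ⟨i, hi⟩
    haveI : IsScalarTower (𝒟.B i) (B' i) (M' i) := uBM ⟨i, hi⟩
    haveI : IsScalarTower (𝒟.B i) (B' i) (M' (i + 1)) := ⟨fun x y m => by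
      show (step' i ((algebraMap (𝒟.B i) (B0 i) x) * y.1)) • m = x • step' i y.1 • m
      rw [map_mul, hstep', mul_smul, IsScalarTower.algebraMap_smul, IsScalarTower.algebraMap_smul]⟩
    haveI := isLocalizedModule_restrict (b₀ i) (a i) rfl (gM ⟨i, hi⟩)
    haveI := isLocalizedModule_restrict (b₀ i) (a (i + 1)) (by
      simp only [a, hb₀ i hi, hb₀ (i + 1) h, hchain i h]) (gM ⟨i + 1, h⟩)
    exact nonempty_coker (Submonoid.powers (b₀ i)) ((gM ⟨i, hi⟩).restrictScalars (𝒟.B i))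
      ((gM ⟨i + 1, h⟩).restrictScalars (𝒟.B i)) (LinearMap.range (𝒟.α i)) (𝒟.isoCoker i h) _ (hrange ⟨i, hi⟩)
  -- primes
  have hover : ∀ i, (p'.map (algebraMap R' (B' i))).IsPrime ∧ ∃ (qb : Ideal (B' i)) (qa : Ideal (A' i)),
      qb.IsPrime ∧ qa.IsPrime ∧ qb.LiesOver p' ∧ qa.LiesOver qb ∧
        ∀ h : i < n, (letI := cB ⟨i, h⟩; qb.LiesOver (𝒜.qB i)) ∧ (letI := cA ⟨i, h⟩; qa.LiesOver (𝒜.qA i)) := by
    intro i
    by_cases h : i < n
    · letI := cB ⟨i, h⟩; letI := cA ⟨i, h⟩; letI := cBA ⟨i, h⟩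
      haveI : IsLocalization.Away (b₀ i) (B' i) := locB ⟨i, h⟩
      haveI : IsLocalization.Away (a i) (A' i) := locA ⟨i, h⟩
      haveI : IsScalarTower R R' (B' i) := u3 ⟨i, h⟩
      haveI : IsScalarTower R (𝒟.B i) (B' i) := u4 ⟨i, h⟩
      haveI : IsScalarTower (𝒟.B i) (𝒟.A i) (A' i) := u5 ⟨i, h⟩
      haveI : IsScalarTower (𝒟.B i) (B' i) (A' i) := u6 ⟨i, h⟩
      have hd : ∀ P : Ideal (𝒟.B i), P.IsPrime → b₀ i ∉ P → Disjoint (Submonoid.powers (b₀ i) : Set (𝒟.B i)) P :=
        fun P hP hbP => Set.disjoint_left.mpr (by rintro _ ⟨k, rfl⟩ hk; exact hbP (hP.mem_of_pow_mem k hk))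
      have hbq : b₀ i ∉ 𝒜.qB i := by rw [hb₀ i h]; exact hb i h
      have hda : Disjoint (Submonoid.powers (a i) : Set (𝒟.A i)) (𝒜.qA i) :=
        Set.disjoint_left.mpr (by rintro _ ⟨k, rfl⟩ hk; exact haq i h (Ideal.IsPrime.mem_of_pow_mem inferInstance k hk))
      have hle : p.map (algebraMap R (𝒟.B i)) ≤ 𝒜.qB i :=
        Ideal.map_le_iff_le_comap.mpr (Ideal.LiesOver.over (p := p) (P := 𝒜.qB i)).le
      refine ⟨?_, (𝒜.qB i).map (algebraMap _ (B' i)), (𝒜.qA i).map (algebraMap _ (A' i)), ?_, ?_, ⟨?_⟩, ⟨?_⟩,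
        fun _ => ⟨⟨?_⟩, ⟨?_⟩⟩⟩
      · rw [Ideal.map_map, ← IsScalarTower.algebraMap_eq R R' (B' i), IsScalarTower.algebraMap_eq R (𝒟.B i) (B' i),
          ← Ideal.map_map]
        exact IsLocalization.isPrime_of_isPrime_disjoint (.powers (b₀ i)) _ _ (𝒟.hp i)
          (hd _ (𝒟.hp i) fun hh => hbq (hle hh))
      · exact IsLocalization.isPrime_of_isPrime_disjoint (.powers (b₀ i)) _ _ inferInstance (hd _ inferInstance hbq)
      · exact IsLocalization.isPrime_of_isPrime_disjoint (.powers (a i)) _ _ inferInstance hda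
      · rw [Ideal.under_def]
        conv_rhs => rw [← IsLocalization.map_comap (.powers g) R' (Ideal.comap _ _)]
        congr 1
        rw [Ideal.under_def, Ideal.comap_comap, ← IsScalarTower.algebraMap_eq R R' (B' i),
          IsScalarTower.algebraMap_eq R (𝒟.B i) (B' i), ← Ideal.comap_comap,
          ← Ideal.under_def (𝒟.B i) (Ideal.map _ _),
          IsLocalization.under_map_of_isPrime_disjoint (.powers (b₀ i)) (B' i) inferInstance (hd _ inferInstance hbq)]
        exact congrArg (Ideal.map (algebraMap R R')) (Ideal.LiesOver.over (p := p) (P := 𝒜.qB i))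
      · rw [Ideal.under_def]
        conv_rhs => rw [← IsLocalization.map_comap (.powers (b₀ i)) (B' i) (Ideal.comap _ _)]
        congr 1
        rw [Ideal.under_def, Ideal.comap_comap, ← IsScalarTower.algebraMap_eq (𝒟.B i) (B' i) (A' i),
          IsScalarTower.algebraMap_eq (𝒟.B i) (𝒟.A i) (A' i), ← Ideal.comap_comap,
          ← Ideal.under_def (𝒟.A i) (Ideal.map _ _),
          IsLocalization.under_map_of_isPrime_disjoint (.powers (a i)) (A' i) inferInstance hda]
        exact Ideal.LiesOver.over (p := 𝒜.qB i) (P := 𝒜.qA i)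
      · exact (IsLocalization.comap_map_of_isPrime_disjoint (.powers (b₀ i)) (B' i) inferInstance (hd _ inferInstance hbq)).symm
      · exact (IsLocalization.comap_map_of_isPrime_disjoint (.powers (a i)) (A' i) inferInstance hda).symm
    · haveI := hB0 i h
      haveI : (J i).IsPrime := by rw [show J i = ⊥ from if_neg h]; exact Ideal.isPrime_bot
      have hker : ∀ r : R', algebraMap R' (Q i) r = 0 ↔ r ∈ p' := by
        intro r
        show Ideal.Quotient.mk (J i) (algebraMap R' L r) = 0 ↔ _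
        rw [Ideal.Quotient.eq_zero_iff_mem, show J i = ⊥ from if_neg h, Ideal.mem_bot, ← RingHom.mem_ker]
        have : RingHom.ker (algebraMap R' L) = p' := by
          rw [← IsLocalization.map_comap (.powers g) R' (RingHom.ker (algebraMap R' L))]
          congr 1
          ext x
          show algebraMap R' L (algebraMap R R' x) = 0 ↔ _
          rw [← IsScalarTower.algebraMap_apply R R' L]
          exact hpL x
        rw [this]
      have heq : p'.map (algebraMap R' (B' i)) = (⊥ : Ideal (Q i)).comap (RingHom.snd (B0 i) (Q i)) := by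
        refine le_antisymm (Ideal.map_le_iff_le_comap.mpr fun r hr => ?_) fun x hx => ?_
        · exact (hker r).mpr hr
        · rw [show x = 0 from Prod.ext (Subsingleton.elim _ _) hx]
          exact Ideal.zero_mem _
      refine ⟨heq ▸ inferInstance, (⊥ : Ideal (Q i)).comap (RingHom.snd (B0 i) (Q i)),
        (⊥ : Ideal (Q i)).comap (RingHom.snd (A0 i) (Q i)), inferInstance, inferInstance, ⟨?_⟩, ⟨rfl⟩,
        fun h' => absurd h' h⟩
      ext r
      exact (hker r).symm
  choose hp' qb qa hqb hqa hqbp hqab hqov using hover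
  haveI := hp'
  -- the new datum
  let 𝒟' : FlatCA.CompleteDevissage R' S' N' p' :=
    { n := n, pos := 𝒟.pos, A := A', B := B', M := M', r := 𝒟.r, α := α'
      surjSA := by
        intro x
        obtain ⟨⟨c, ⟨_, k, rfl⟩⟩, hx⟩ := IsLocalization.surj (Submonoid.powers (a 0)) x.1
        obtain ⟨s, rfl⟩ := 𝒟.surjSA c
        refine ⟨IsLocalization.mk' S' s (⟨hX ^ k, k, rfl⟩ : Submonoid.powers hX), Prod.ext ?_ (Subsingleton.elim _ _)⟩
        show sc _ = x.1
        refine ((IsLocalization.map_units (A0 0) (⟨a 0 ^ k, k, rfl⟩ : Submonoid.powers (a 0)))).mul_left_injective ?_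
        show sc _ * algebraMap (𝒟.A 0) (A0 0) (a 0 ^ k) = x.1 * _
        refine Eq.trans ?_ hx.symm
        have ek : a 0 ^ k = algebraMap S (𝒟.A 0) (hX ^ k) := by rw [map_pow, hXa]
        refine (congrArg (fun c => sc _ * algebraMap (𝒟.A 0) (A0 0) c) ek).trans ?_
        rw [← hsc, ← map_mul, IsLocalization.mk'_spec, hsc]
      fpSA := by
        letI := cA ⟨0, 𝒟.pos⟩
        haveI : IsLocalization.Away (a 0) (A' 0) := locA ⟨0, 𝒟.pos⟩
        haveI := 𝒟.fpSA
        haveI : Algebra.FinitePresentation (𝒟.A 0) (A' 0) := IsLocalization.Away.finitePresentation (a 0)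
        haveI : Algebra.FinitePresentation S (A' 0) := Algebra.FinitePresentation.trans S (𝒟.A 0) (A' 0)
        haveI : Algebra.FinitePresentation S S' := IsLocalization.Away.finitePresentation hX
        exact Algebra.FinitePresentation.of_restrict_scalars_finitePresentation S S' (A' 0)
      surjBA' := by
        intro i h x
        have hi : i < n := Nat.lt_of_succ_lt h
        haveI := hQ (i + 1) h
        obtain ⟨⟨c, ⟨_, k, rfl⟩⟩, hx⟩ := IsLocalization.surj (Submonoid.powers (a (i + 1))) x.1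
        obtain ⟨s, rfl⟩ := 𝒟.surjBA' i h c
        refine ⟨(IsLocalization.mk' (B0 i) s (⟨b₀ i ^ k, k, rfl⟩ : Submonoid.powers (b₀ i)), 0),
          Prod.ext ?_ (Subsingleton.elim _ _)⟩
        show step' i _ = x.1
        have e : algebraMap (𝒟.B i) (𝒟.A (i + 1)) (b₀ i) = a (i + 1) := by
          simp only [a, hb₀ i hi, hb₀ (i + 1) h, hchain i h]
        refine ((IsLocalization.map_units (A0 (i + 1)) (⟨a (i + 1) ^ k, k, rfl⟩ : Submonoid.powers (a (i + 1))))).mul_left_injective ?_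
        show step' i (IsLocalization.mk' (B0 i) s (⟨b₀ i ^ k, k, rfl⟩ : Submonoid.powers (b₀ i))) *
          algebraMap (𝒟.A (i + 1)) (A0 (i + 1)) (a (i + 1) ^ k) = x.1 * _
        refine Eq.trans ?_ hx.symm
        have ek : a (i + 1) ^ k = algebraMap (𝒟.B i) (𝒟.A (i + 1)) (b₀ i ^ k) := by rw [map_pow, e]
        refine (congrArg (fun c => step' i _ * algebraMap (𝒟.A (i + 1)) (A0 (i + 1)) c) ek).trans ?_
        rw [← hstep', ← map_mul, IsLocalization.mk'_spec, hstep']
      fpBA' := by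
        intro i h
        have hi : i < n := Nat.lt_of_succ_lt h
        letI := cA ⟨i + 1, h⟩; letI := cB ⟨i, hi⟩; letI := cBA' ⟨i, hi⟩
        haveI : IsLocalization.Away (a (i + 1)) (A' (i + 1)) := locA ⟨i + 1, h⟩
        haveI : IsLocalization.Away (b₀ i) (B' i) := locB ⟨i, hi⟩
        haveI : IsScalarTower (𝒟.B i) (B' i) (A' (i + 1)) := u7 ⟨i, hi⟩
        haveI := hQ (i + 1) h
        haveI : IsScalarTower (𝒟.B i) (𝒟.A (i + 1)) (A' (i + 1)) := IsScalarTower.of_algebraMap_eq fun c =>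
          Prod.ext (hstep' i c) (Subsingleton.elim _ _)
        haveI := 𝒟.fpBA' i h
        haveI : Algebra.FinitePresentation (𝒟.A (i + 1)) (A' (i + 1)) := IsLocalization.Away.finitePresentation (a (i + 1))
        haveI : Algebra.FinitePresentation (𝒟.B i) (A' (i + 1)) := Algebra.FinitePresentation.trans (𝒟.B i) (𝒟.A (i + 1)) (A' (i + 1))
        haveI : Algebra.FinitePresentation (𝒟.B i) (B' i) := IsLocalization.Away.finitePresentation (b₀ i)
        exact Algebra.FinitePresentation.of_restrict_scalars_finitePresentation (𝒟.B i) (B' i) (A' (i + 1))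
      finiteBA := by
        intro i h
        letI := cA ⟨i, h⟩; letI := cB ⟨i, h⟩; letI := cBA ⟨i, h⟩
        haveI : IsLocalization.Away (a i) (A' i) := locA ⟨i, h⟩
        haveI : IsLocalization.Away (b₀ i) (B' i) := locB ⟨i, h⟩
        haveI : IsScalarTower (𝒟.B i) (𝒟.A i) (A' i) := u5 ⟨i, h⟩
        haveI : IsScalarTower (𝒟.B i) (B' i) (A' i) := u6 ⟨i, h⟩
        haveI := 𝒟.finiteBA i h
        haveI : IsLocalization (Algebra.algebraMapSubmonoid (𝒟.A i) (Submonoid.powers (b₀ i))) (A' i) := by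
          rw [Algebra.algebraMapSubmonoid, Submonoid.map_powers]
          exact locA ⟨i, h⟩
        exact Module.Finite.of_isLocalization (𝒟.B i) (𝒟.A i) (Rₚ := B' i) (Sₚ := A' i) (Submonoid.powers (b₀ i))
      smooth := by
        intro i h
        letI := cB ⟨i, h⟩
        haveI : IsScalarTower R R' (B' i) := u3 ⟨i, h⟩
        haveI : IsScalarTower R (𝒟.B i) (B' i) := u4 ⟨i, h⟩
        haveI : IsLocalization.Away (b₀ i) (B' i) := locB ⟨i, h⟩
        haveI h1 := (smooth_geomIrred_isLocalization (𝒜.d i) (𝒜.relDim i h) (𝒟.geomIrred i h) g (b₀ i)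
          (R' := R') (D' := B' i) (by rw [hb₀ i h]; exact hsurj i h)).1
        have h2 : Smooth (Spec.map (CommRingCat.ofHom (algebraMap R' (B' i)))) := SmoothOfRelativeDimension.smooth (𝒜.d i) _
        exact RingHom.smooth_algebraMap.mp ((HasRingHomProperty.Spec_iff (P := @Smooth)).mp h2)
      geomIrred := by
        intro i h
        letI := cB ⟨i, h⟩
        haveI : IsScalarTower R R' (B' i) := u3 ⟨i, h⟩
        haveI : IsScalarTower R (𝒟.B i) (B' i) := u4 ⟨i, h⟩
        haveI : IsLocalization.Away (b₀ i) (B' i) := locB ⟨i, h⟩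
        exact (smooth_geomIrred_isLocalization (𝒜.d i) (𝒜.relDim i h) (𝒟.geomIrred i h) g (b₀ i)
          (R' := R') (D' := B' i) (by rw [hb₀ i h]; exact hsurj i h)).2
      finiteM := by
        intro i h
        letI := cA ⟨i, h⟩
        haveI : IsLocalization.Away (a i) (A' i) := locA ⟨i, h⟩
        haveI : IsScalarTower (𝒟.A i) (A' i) (M' i) := u9 ⟨i, h⟩
        haveI := 𝒟.finiteM i h
        exact Module.Finite.of_isLocalizedModule (Submonoid.powers (a i)) (gM ⟨i, h⟩)
      isoN := isoN'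
      isoCoker := fun i h => Classical.choice (hcoker i h)
      fibreIso := by
        intro i h
        letI := cB ⟨i, h⟩
        haveI : IsScalarTower R R' (B' i) := u3 ⟨i, h⟩
        haveI : IsScalarTower R (𝒟.B i) (B' i) := u4 ⟨i, h⟩
        haveI : IsLocalization.Away (b₀ i) (B' i) := locB ⟨i, h⟩
        haveI : IsScalarTower (𝒟.B i) (B' i) (M' i) := uBM ⟨i, h⟩
        haveI := lMB ⟨i, h⟩
        have hbq : b₀ i ∉ p.map (algebraMap R (𝒟.B i)) := fun hh => by
          refine hb i h ?_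
          rw [← hb₀ i h]
          exact (Ideal.map_le_iff_le_comap.mpr (Ideal.LiesOver.over (p := p) (P := 𝒜.qB i)).le) hh
        refine fibreIso_away (Submonoid.powers (b₀ i)) (p.map (algebraMap R (𝒟.B i))) _ ?_
          (LinearMap.pi fun j => (Algebra.linearMap (𝒟.B i) (B' i)).comp (LinearMap.proj j))
          ((gM ⟨i, h⟩).restrictScalars (𝒟.B i)) (𝒟.α i) (α' i) (fun y => hα ⟨i, h⟩ y) (𝒟.fibreIso i h)
        rw [Ideal.map_map, ← IsScalarTower.algebraMap_eq R R' (B' i), IsScalarTower.algebraMap_eq R (𝒟.B i) (B' i),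
          ← Ideal.map_map]
        exact IsLocalization.comap_map_of_isPrime_disjoint (.powers (b₀ i)) (B' i) (𝒟.hp i)
          (Set.disjoint_left.mpr (by rintro _ ⟨k, rfl⟩ hk; exact hbq ((𝒟.hp i).mem_of_pow_mem k hk)))
      cokerLast := by
        have h : n - 1 < n := Nat.sub_one_lt_of_lt 𝒟.pos
        letI := cB ⟨n - 1, h⟩
        haveI : IsLocalization.Away (b₀ (n - 1)) (B' (n - 1)) := locB ⟨n - 1, h⟩
        haveI : IsScalarTower (𝒟.B (n - 1)) (B' (n - 1)) (M' (n - 1)) := uBM ⟨n - 1, h⟩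
        haveI := lMB ⟨n - 1, h⟩
        rw [← LinearMap.range_eq_top, hrange ⟨n - 1, h⟩, LinearMap.range_eq_top.mpr 𝒟.cokerLast]
        show Submodule.span (B' (n - 1)) (((gM ⟨n - 1, h⟩).restrictScalars (𝒟.B (n - 1))) ''
          ((⊤ : Submodule (𝒟.B (n - 1)) (𝒟.M (n - 1))) : Set (𝒟.M (n - 1)))) = ⊤
        rw [← Submodule.localized'_eq_span (B' (n - 1)) (Submonoid.powers (b₀ (n - 1)))
            ((gM ⟨n - 1, h⟩).restrictScalars (𝒟.B (n - 1))) ⊤, Submodule.localized'_top] }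
  let 𝒜' : FlatCA.CompleteDevissageAt R' S' N' p' (q.map (algebraMap S S')) 𝒟' :=
    { qB := qb, qA := qa, hqB := hqb, hqA := hqa, overB := hqbp, overA := hqab, d := 𝒜.d
      pureTrans := by
        intro i h
        letI := cB ⟨i, h⟩
        haveI : IsScalarTower R R' (B' i) := u3 ⟨i, h⟩
        haveI : IsScalarTower R (𝒟.B i) (B' i) := u4 ⟨i, h⟩
        haveI : IsLocalization.Away (b₀ i) (B' i) := locB ⟨i, h⟩
        haveI : p'.LiesOver p := ⟨hp'c.symm⟩
        haveI := (hqov i h).1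
        haveI := hqbp i
        exact purelyTranscendental_away (.powers g) (.powers (b₀ i)) p p' (𝒜.qB i) (qb i) (𝒜.pureTrans i h)
      uniq := by
        intro i h P _ hP
        letI := cA ⟨i, h⟩; letI := cB ⟨i, h⟩; letI := cBA ⟨i, h⟩
        haveI : IsLocalization.Away (a i) (A' i) := locA ⟨i, h⟩
        haveI : IsScalarTower (𝒟.B i) (𝒟.A i) (A' i) := u5 ⟨i, h⟩
        haveI : IsScalarTower (𝒟.B i) (B' i) (A' i) := u6 ⟨i, h⟩
        rw [← IsLocalization.map_comap (.powers (a i)) (A' i) P, ← IsLocalization.map_comap (.powers (a i)) (A' i) (qa i)]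
        congr 1
        refine Eq.trans (𝒜.uniq i h _ ⟨?_⟩) (hqov i h).2.over
        rw [Ideal.under_def, Ideal.under_def, Ideal.comap_comap, ← IsScalarTower.algebraMap_eq (𝒟.B i) (𝒟.A i) (A' i),
          IsScalarTower.algebraMap_eq (𝒟.B i) (B' i) (A' i), ← Ideal.comap_comap]
        exact (hqov i h).1.over.trans (congrArg (Ideal.comap (algebraMap (𝒟.B i) (B' i))) hP.over)
      q0 := by
        letI := cA ⟨0, 𝒟.pos⟩
        rw [← IsLocalization.map_comap (.powers hX) S' (Ideal.comap _ (qa 0))]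
        congr 1
        rw [Ideal.under_def, Ideal.comap_comap, ← IsScalarTower.algebraMap_eq S S' (A' 0),
          IsScalarTower.algebraMap_eq S (𝒟.A 0) (A' 0), ← Ideal.comap_comap]
        exact (congrArg (Ideal.comap (algebraMap S (𝒟.A 0))) (hqov 0 𝒟.pos).2.over.symm).trans 𝒜.q0
      qStep := by
        intro i h
        have hi : i < n := Nat.lt_of_succ_lt h
        letI := cA ⟨i + 1, h⟩; letI := cB ⟨i, hi⟩; letI := cBA' ⟨i, hi⟩
        haveI : IsLocalization.Away (b₀ i) (B' i) := locB ⟨i, hi⟩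
        haveI : IsScalarTower (𝒟.B i) (B' i) (A' (i + 1)) := u7 ⟨i, hi⟩
        haveI := hQ (i + 1) h
        haveI : IsScalarTower (𝒟.B i) (𝒟.A (i + 1)) (A' (i + 1)) := IsScalarTower.of_algebraMap_eq fun c =>
          Prod.ext (hstep' i c) (Subsingleton.elim _ _)
        rw [← IsLocalization.map_comap (.powers (b₀ i)) (B' i) (Ideal.comap _ (qa (i + 1))),
          ← IsLocalization.map_comap (.powers (b₀ i)) (B' i) (qb i)]
        congr 1
        rw [Ideal.under_def, Ideal.under_def, Ideal.comap_comap, ← IsScalarTower.algebraMap_eq (𝒟.B i) (B' i) (A' (i + 1)),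
          IsScalarTower.algebraMap_eq (𝒟.B i) (𝒟.A (i + 1)) (A' (i + 1)), ← Ideal.comap_comap]
        exact ((congrArg (Ideal.comap (algebraMap (𝒟.B i) (𝒟.A (i + 1)))) (hqov (i + 1) h).2.over.symm).trans
          (𝒜.qStep i h)).trans (hqov i hi).1.over
      relDim := by
        intro i h
        letI := cB ⟨i, h⟩
        haveI : IsScalarTower R R' (B' i) := u3 ⟨i, h⟩
        haveI : IsScalarTower R (𝒟.B i) (B' i) := u4 ⟨i, h⟩
        haveI : IsLocalization.Away (b₀ i) (B' i) := locB ⟨i, h⟩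
        exact (smooth_geomIrred_isLocalization (𝒜.d i) (𝒜.relDim i h) (𝒟.geomIrred i h) g (b₀ i)
          (R' := R') (D' := B' i) (by rw [hb₀ i h]; exact hsurj i h)).1
      locDim := by
        intro i h
        letI := cB ⟨i, h⟩
        haveI : IsScalarTower R R' (B' i) := u3 ⟨i, h⟩
        haveI : IsScalarTower R (𝒟.B i) (B' i) := u4 ⟨i, h⟩
        haveI : IsLocalization.Away (b₀ i) (B' i) := locB ⟨i, h⟩
        haveI : IsScalarTower (𝒟.B i) (B' i) (M' i) := uBM ⟨i, h⟩
        haveI := lMB ⟨i, h⟩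
        haveI := 𝒟.finiteBA i h
        haveI := 𝒟.finiteM i h
        haveI : Module.Finite (𝒟.B i) (𝒟.M i) := Module.Finite.trans (𝒟.A i) (𝒟.M i)
        haveI : Module.Finite (B' i) (M' i) :=
          Module.Finite.of_isLocalizedModule (Submonoid.powers (b₀ i)) ((gM ⟨i, h⟩).restrictScalars (𝒟.B i))
        exact (fibreDim_away' g (b₀ i) p p' hp'c (𝒜.qB i) (Ideal.LiesOver.over (p := p) (P := 𝒜.qB i)).symm
          (qb i) (hqov i h).1.over.symm (𝒟.M i) (M' i) ((gM ⟨i, h⟩).restrictScalars (𝒟.B i))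
          (IsLocalizedModule.isBaseChange (Submonoid.powers (b₀ i)) (B' i) _) (𝒜.d i) (𝒜.locDim i h)).2 }
  refine ⟨a1, t1, m1, t8, hp'p, hq'p, 𝒟', 𝒜', fun i => a i, fun i => b i, cA, fun i => inferInstanceAs (Algebra R (A' i)),
    u1, u2, cB, fun i => inferInstanceAs (Algebra R (B' i)), u3, u4, cBA, u5, u6, cBA', u7, cSA, u8,
    fun i => inferInstanceAs (Module (𝒟.A i) (M' i)), u9, gM, rfl, rfl, rfl, rfl, uSA, ?_, ?_, fun i =>
      ⟨haq i i.2, hb i i.2, locA i, ?_, inferInstance, (hqov i i.2).2, (hqov i i.2).1, hrange i⟩⟩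
  · intro x
    show IsLocalizedModule.iso (Submonoid.powers hX) f0 (LocalizedModule.mk x 1) = _
    exact IsLocalizedModule.iso_mk_one _ _ _
  · intro i h
    letI := cA ⟨i + 1, h⟩
    haveI := hQ (i + 1) h
    exact IsScalarTower.of_algebraMap_eq fun c => Prod.ext (hstep' i c) (Subsingleton.elim _ _)
  · show IsLocalization.Away (b i) (B' i)
    rw [← hb₀ i i.2]
    exact locB i

end Groth.Agent.H69.Shrink
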