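import Groth.Agent.H69.Shrink.Main
import Mathlib.Algebra.Module.LocalizedModule.Submodule

/-!
# Pieces of a shrinking, for arbitrary models of the localisations
-/

set_option autoImplicit false
set_option linter.style.haveILetI false
set_option linter.unusedVariables false
set_option backward.isDefEq.respectTransparency false
set_option backward.isDefEq.respectTransparency.types false

universe u

open TensorProduct AlgebraicGeometry CategoryTheory CategoryTheory.Limits

namespace Groth.Agent.H69.Shrink

/-- Smoothness and geometric irreducibility of fibres for a shrinking. -/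
theorem smooth_geomIrred_isLocalization {R D R' D' : Type u} [CommRing R] [CommRing D] [Algebra R D]
    [CommRing R'] [CommRing D'] [Algebra R R'] [Algebra D D'] [Algebra R D'] [IsScalarTower R D D'] (n : ℕ)
    (hsm : FlatCA.SmoothRelDim n R D) (hgi : FlatCA.GeomIrredFibres R D) (g : R) (h : D)
    [IsLocalization.Away g R'] [IsLocalization.Away h D'] [Algebra R' D'] [IsScalarTower R R' D']
    (hsurj : ∀ P : PrimeSpectrum R, g ∉ P.asIdeal →
      ∃ Q : PrimeSpectrum D, h ∉ Q.asIdeal ∧ PrimeSpectrum.comap (algebraMap R D) Q = P) :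
    FlatCA.SmoothRelDim n R' D' ∧
      FlatCA.GeomIrredFibres R' D' := by
  haveI := hsm
  haveI := hgi
  let i : Spec (CommRingCat.of R') ⟶ Spec (CommRingCat.of R) :=
    Spec.map (CommRingCat.ofHom (algebraMap R R'))
  let j : Spec (CommRingCat.of D') ⟶ Spec (CommRingCat.of D) :=
    Spec.map (CommRingCat.ofHom (algebraMap D D'))
  let f : Spec (CommRingCat.of D) ⟶ Spec (CommRingCat.of R) := Spec.map (CommRingCat.ofHom (algebraMap R D))
  let f' : Spec (CommRingCat.of D') ⟶ Spec (CommRingCat.of R') :=
    Spec.map (CommRingCat.ofHom (algebraMap R' D'))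
  haveI : IsOpenImmersion i := IsOpenImmersion.of_isLocalization g
  haveI : IsOpenImmersion j := IsOpenImmersion.of_isLocalization h
  have hcomm : f' ≫ i = j ≫ f := by
    simp only [i, j, f, f', ← Spec.map_comp, ← CommRingCat.ofHom_comp]
    rw [← IsScalarTower.algebraMap_eq R R' D',
      ← IsScalarTower.algebraMap_eq R D D']
  haveI : SmoothOfRelativeDimension n (f' ≫ i) := by
    rw [hcomm]
    have h0 : SmoothOfRelativeDimension (0 + n) (j ≫ f) := inferInstance
    rwa [Nat.zero_add] at h0
  refine ⟨?_, ?_⟩
  · haveI := smoothOfRelativeDimension_isStableUnderBaseChange.{u} n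
    exact MorphismProperty.of_isPullback (P := @SmoothOfRelativeDimension n)
      (IsPullback.of_horiz_isIso_mono (snd := f') (f := f' ≫ i) (g := i) (fst := 𝟙 _) ⟨by simp⟩)
      ‹SmoothOfRelativeDimension n (f' ≫ i)›
  · haveI : Surjective f' := ⟨fun P => by
      let P0 := PrimeSpectrum.comap (algebraMap R R') P
      have hg : g ∉ P0.asIdeal := fun hg =>
        P.2.ne_top (Ideal.eq_top_of_isUnit_mem _ hg (IsLocalization.Away.algebraMap_isUnit g))
      obtain ⟨Q, hQh, hQ⟩ := hsurj P0 hg
      obtain ⟨Q', rfl⟩ : Q ∈ Set.range (PrimeSpectrum.comap (algebraMap D D')) :=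
        (PrimeSpectrum.localization_away_comap_range _ h).ge hQh
      refine ⟨Q', PrimeSpectrum.localization_comap_injective R' (.powers g) ?_⟩
      exact (congrArg (fun φ : Spec (CommRingCat.of D') ⟶ Spec (CommRingCat.of R) => φ.base Q') hcomm).trans hQ⟩
    refine ⟨fun K _ y P fst snd hP => ?_⟩
    have hbig : IsPullback (pullback.fst f (y ≫ i)) (pullback.snd f (y ≫ i)) f (y ≫ i) := .of_hasPullback _ _
    haveI : IrreducibleSpace (pullback f (y ≫ i) : Scheme.{u}) :=
      hgi.geometrically_irreducibleSpace (y := y ≫ i) _ _ hbig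
    let φ : P ⟶ pullback f (y ≫ i) := pullback.lift (fst ≫ j) snd
      (by rw [Category.assoc, ← hcomm, hP.w_assoc])
    have hφ : IsPullback φ fst (pullback.fst f (y ≫ i)) j := by
      refine IsPullback.of_right (h₁₂ := pullback.snd f (y ≫ i)) (v₁₃ := y ≫ i) (h₂₂ := f) ?_
        (pullback.lift_fst _ _ _) hbig.flip
      rw [pullback.lift_snd]
      have := hP.flip.paste_vert (IsPullback.of_horiz_isIso_mono (snd := f') (f := f' ≫ i) (g := i) (fst := 𝟙 _) ⟨by simp⟩).flip
      rw [hcomm] at this
      simpa using this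
    haveI : IsOpenImmersion φ := MorphismProperty.of_isPullback hφ.flip ‹IsOpenImmersion j›
    haveI : Surjective snd := MorphismProperty.of_isPullback hP ‹Surjective f'›
    haveI : Nonempty P := ⟨(snd.surjective (IsLocalRing.closedPoint K)).choose⟩
    exact φ.isOpenEmbedding.irreducibleSpace

/-- A homomorphism to a subsingleton ring. -/
def trivHom (X Q : Type u) [CommRing X] [CommRing Q] [Subsingleton Q] : X →+* Q where
  toFun _ := 0
  map_one' := Subsingleton.elim _ _
  map_mul' _ _ := Subsingleton.elim _ _
  map_zero' := rfl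
  map_add' _ _ := Subsingleton.elim _ _

/-- Multiplying a localisation by a trivial ring. -/
theorem isLocalization_prod {A L Q : Type u} [CommRing A] [CommRing L] [CommRing Q] [Subsingleton Q]
    [Algebra A L] [Algebra A (L × Q)] (h : ∀ x, (algebraMap A (L × Q) x).1 = algebraMap A L x)
    (M : Submonoid A) [IsLocalization M L] : IsLocalization M (L × Q) :=
  IsLocalization.isLocalization_of_algEquiv M
    (AlgEquiv.ofRingEquiv (f :=
      { toFun := fun x => (x, 0), invFun := Prod.fst, left_inv := fun _ => rfl,
        right_inv := fun x => Prod.ext rfl (Subsingleton.elim _ _),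
        map_mul' := fun _ _ => Prod.ext rfl (Subsingleton.elim _ _),
        map_add' := fun _ _ => Prod.ext rfl (Subsingleton.elim _ _) })
      fun x => Prod.ext (h x).symm (Subsingleton.elim _ _))

/-- Restricting scalars of a localisation at the image of an element. -/
theorem isLocalizedModule_restrict {B A : Type u} [CommRing B] [CommRing A] [Algebra B A] (b : B) (a : A)
    (ha : algebraMap B A b = a) {M M' : Type u} [AddCommGroup M] [Module A M] [Module B M]
    [IsScalarTower B A M] [AddCommGroup M'] [Module A M'] [Module B M'] [IsScalarTower B A M']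
    (f : M →ₗ[A] M') [IsLocalizedModule (Submonoid.powers a) f] :
    IsLocalizedModule (Submonoid.powers b) (f.restrictScalars B) := by
  subst ha
  have hs : ∀ (k : ℕ) (m : M), (b ^ k) • m = (algebraMap B A b ^ k) • m := fun k m => by
    rw [← map_pow, IsScalarTower.algebraMap_smul]
  have hs' : ∀ (k : ℕ) (m : M'), (b ^ k) • m = (algebraMap B A b ^ k) • m := fun k m => by
    rw [← map_pow, IsScalarTower.algebraMap_smul]
  refine ⟨?_, ?_, ?_⟩
  · rintro ⟨_, k, rfl⟩
    refine (Module.End.isUnit_iff _).mpr ?_
    have h := (Module.End.isUnit_iff _).mp (IsLocalizedModule.map_units f (⟨algebraMap B A b ^ k, k, rfl⟩ : Submonoid.powers (algebraMap B A b)))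
    have e : (fun m : M' => (b ^ k) • m) = fun m => (algebraMap B A b ^ k) • m := funext (hs' k)
    show Function.Bijective fun m : M' => (b ^ k) • m
    rw [e]
    exact h
  · intro m
    obtain ⟨⟨x, ⟨_, k, rfl⟩⟩, hx⟩ := IsLocalizedModule.surj (Submonoid.powers (algebraMap B A b)) f m
    exact ⟨⟨x, ⟨b ^ k, k, rfl⟩⟩, (hs' k m).trans hx⟩
  · intro x y hxy
    obtain ⟨⟨_, k, rfl⟩, hk⟩ := IsLocalizedModule.exists_of_eq (S := Submonoid.powers (algebraMap B A b)) (f := f) hxy
    exact ⟨⟨b ^ k, k, rfl⟩, (hs k x).trans (hk.trans (hs k y).symm)⟩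

/-- Base change of a step map to a larger algebra stays bijective on a localisation. -/
theorem baseChange_bijective {B B' K0 K : Type u} [CommRing B] [CommRing B'] [Algebra B B'] (T : Submonoid B)
    [IsLocalization T B'] [CommRing K0] [CommRing K] [Algebra B K0] [Algebra K0 K] [Algebra B K] [Algebra B' K]
    [IsScalarTower B K0 K] [IsScalarTower B B' K] {M M' F F' : Type u} [AddCommGroup M] [Module B M]
    [AddCommGroup M'] [Module B M'] [Module B' M'] [IsScalarTower B B' M'] [AddCommGroup F] [Module B F]
    [AddCommGroup F'] [Module B F'] [Module B' F'] [IsScalarTower B B' F']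
    (gF : F →ₗ[B] F') [IsLocalizedModule T gF] (gM : M →ₗ[B] M') [IsLocalizedModule T gM]
    (α : F →ₗ[B] M) (α' : F' →ₗ[B'] M') (hα : ∀ x, α' (gF x) = gM (α x))
    (h : Function.Bijective (α.baseChange K0)) :
    Function.Bijective (α'.baseChange K) := by
  let eF : K ⊗[B] F ≃ₗ[K] K ⊗[B'] F' :=
    (AlgebraTensorModule.cancelBaseChange B B' K K F).symm.trans
      (AlgebraTensorModule.congr (LinearEquiv.refl K K) (IsLocalizedModule.isBaseChange T B' gF).equiv)
  let eM : K ⊗[B] M ≃ₗ[K] K ⊗[B'] M' :=
    (AlgebraTensorModule.cancelBaseChange B B' K K M).symm.trans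
      (AlgebraTensorModule.congr (LinearEquiv.refl K K) (IsLocalizedModule.isBaseChange T B' gM).equiv)
  let qF : K ⊗[K0] (K0 ⊗[B] F) ≃ₗ[K] K ⊗[B] F :=
    AlgebraTensorModule.cancelBaseChange B K0 K K F
  let qM : K ⊗[K0] (K0 ⊗[B] M) ≃ₗ[K] K ⊗[B] M :=
    AlgebraTensorModule.cancelBaseChange B K0 K K M
  have hb : Function.Bijective ((α.baseChange K0).baseChange K) := by
    let eh := LinearEquiv.ofBijective (α.baseChange K0) h
    have : (α.baseChange K0).baseChange K = (eh.baseChange K0 K _ _).toLinearMap := by
      refine TensorProduct.AlgebraTensorModule.ext fun c x => ?_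
      simp [eh]
    rw [this]
    exact (eh.baseChange K0 K _ _).bijective
  have key : α'.baseChange K = eM.toLinearMap ∘ₗ (qM.toLinearMap ∘ₗ ((α.baseChange K0).baseChange K) ∘ₗ
      qF.symm.toLinearMap) ∘ₗ eF.symm.toLinearMap := by
    rw [← LinearMap.comp_assoc, ← LinearEquiv.comp_toLinearMap_symm_eq, LinearEquiv.symm_symm]
    refine TensorProduct.AlgebraTensorModule.ext fun c x => ?_
    simp [eF, eM, qF, qM, IsBaseChange.equiv_tmul, hα]
  rw [key]
  exact eM.bijective.comp ((qM.bijective.comp (hb.comp qF.symm.bijective)).comp eF.symm.bijective)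

/-- The residue-field base change of a step map stays bijective on a localisation. -/
theorem fibreIso_away {B B' : Type u} [CommRing B] [CommRing B'] [Algebra B B'] (T : Submonoid B)
    [IsLocalization T B'] (P : Ideal B) [P.IsPrime] (P' : Ideal B') [P'.IsPrime]
    (hP : P'.comap (algebraMap B B') = P) {M M' F F' : Type u} [AddCommGroup M] [Module B M]
    [AddCommGroup M'] [Module B M'] [Module B' M'] [IsScalarTower B B' M'] [AddCommGroup F] [Module B F]
    [AddCommGroup F'] [Module B F'] [Module B' F'] [IsScalarTower B B' F']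
    (gF : F →ₗ[B] F') [IsLocalizedModule T gF] (gM : M →ₗ[B] M') [IsLocalizedModule T gM]
    (α : F →ₗ[B] M) (α' : F' →ₗ[B'] M') (hα : ∀ x, α' (gF x) = gM (α x))
    (h : Function.Bijective (α.baseChange P.ResidueField)) :
    Function.Bijective (α'.baseChange P'.ResidueField) := by
  let φ : P.ResidueField →+* P'.ResidueField := Ideal.ResidueField.map P P' (algebraMap B B') hP.symm
  letI : Algebra P.ResidueField P'.ResidueField := φ.toAlgebra
  haveI : IsScalarTower B P.ResidueField P'.ResidueField := IsScalarTower.of_algebraMap_eq fun x => by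
    rw [IsScalarTower.algebraMap_apply B B' P'.ResidueField]
    exact (Ideal.ResidueField.map_algebraMap ..).symm
  exact baseChange_bijective T gF gM α α' hα h

/-- Quotients by the span of the image of a submodule. -/
theorem nonempty_coker {B B' : Type u} [CommRing B] [CommRing B'] [Algebra B B'] (T : Submonoid B)
    [IsLocalization T B'] {M M' N N' : Type u} [AddCommGroup M] [Module B M] [AddCommGroup M'] [Module B M']
    [Module B' M'] [IsScalarTower B B' M'] [AddCommGroup N] [Module B N] [AddCommGroup N'] [Module B N']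
    [Module B' N'] [IsScalarTower B B' N'] (gM : M →ₗ[B] M') [IsLocalizedModule T gM]
    (gN : N →ₗ[B] N') [IsLocalizedModule T gN] (W : Submodule B M) (e : (M ⧸ W) ≃ₗ[B] N)
    (W' : Submodule B' M') (hW : W' = Submodule.span B' (gM '' (W : Set M))) :
    Nonempty ((M' ⧸ W') ≃ₗ[B'] N') := by
  haveI : IsLocalizedModule T (gN ∘ₗ e.toLinearMap) := IsLocalizedModule.of_linearEquiv_right T gN e
  have h : W' = W.localized' B' T gM := by rw [hW, Submodule.localized'_eq_span]
  exact ⟨(Submodule.quotEquivOfEq _ _ h).trans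
    ((IsLocalizedModule.linearEquiv T (W.toLocalizedQuotient' B' T gM)
      (gN ∘ₗ e.toLinearMap)).extendScalarsOfIsLocalization T B')⟩

end Groth.Agent.H69.Shrink
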