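import Groth.Agent.H69.Shrink.Basic
import Mathlib.RingTheory.IntegralClosure.GoingDown
import Mathlib.RingTheory.Ideal.GoingUp
import Mathlib.RingTheory.AlgebraicIndependent.TranscendenceBasis
import Mathlib.RingTheory.FinitePresentation
import Mathlib.AlgebraicGeometry.Morphisms.FlatRank

/-!
# Standard shrinkings of a one-step dévissage
-/

set_option autoImplicit false
set_option linter.style.haveILetI false
set_option linter.unusedVariables false
set_option backward.isDefEq.respectTransparency false
set_option backward.isDefEq.respectTransparency.types false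

universe u

open TensorProduct AlgebraicGeometry CategoryTheory CategoryTheory.Limits

namespace Groth.Agent.H69.Shrink

/-- The structure map of a localisation over a localised base. -/
noncomputable def awayMap {R B : Type u} [CommRing R] [CommRing B] [Algebra R B] (g : R) (h : B)
    (hg : IsUnit (algebraMap R (Localization.Away h) g)) : Localization.Away g →+* Localization.Away h :=
  IsLocalization.Away.lift g hg

theorem awayMap_comp {R B : Type u} [CommRing R] [CommRing B] [Algebra R B] (g : R) (h : B)
    (hg : IsUnit (algebraMap R (Localization.Away h) g)) :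
    (awayMap g h hg).comp (algebraMap R (Localization.Away g)) = algebraMap R (Localization.Away h) :=
  IsLocalization.Away.lift_comp g hg

/-- Points of a basic open upstairs cover a basic open downstairs. -/
theorem exists_basicOpen_le_image {R D : Type u} [CommRing R] [CommRing D] [Algebra R D] (n : ℕ)
    (hsm : FlatCA.SmoothRelDim n R D) (p : Ideal R) [p.IsPrime] (y : Ideal D) [y.IsPrime]
    [hy : y.LiesOver p] (w : D) (hw : w ∉ y) :
    ∃ g : R, g ∉ p ∧ ∀ P : PrimeSpectrum R, g ∉ P.asIdeal →
      ∃ Q : PrimeSpectrum D, w ∉ Q.asIdeal ∧ PrimeSpectrum.comap (algebraMap R D) Q = P := by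
  haveI := hsm
  let f := Spec.map (CommRingCat.ofHom (algebraMap R D))
  haveI : Smooth f := SmoothOfRelativeDimension.smooth n f
  have ho : IsOpen (f '' (PrimeSpectrum.basicOpen w : Set (PrimeSpectrum D))) :=
    f.isOpenMap _ (PrimeSpectrum.basicOpen w).2
  have hmem : (⟨p, inferInstance⟩ : PrimeSpectrum R) ∈ f '' (PrimeSpectrum.basicOpen w : Set (PrimeSpectrum D)) :=
    ⟨⟨y, inferInstance⟩, hw, PrimeSpectrum.ext hy.over.symm⟩
  obtain ⟨_, ⟨g, rfl⟩, hgp, hgsub⟩ :=
    PrimeSpectrum.isTopologicalBasis_basic_opens.exists_subset_of_mem_open hmem ho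
  refine ⟨g, hgp, fun P hP => ?_⟩
  obtain ⟨Q, hQ, hQP⟩ := hgsub hP
  exact ⟨Q, hQ, hQP⟩

/-- Smoothness and geometric irreducibility of fibres for a shrinking. -/
theorem smooth_geomIrred_away {R D : Type u} [CommRing R] [CommRing D] [Algebra R D] (n : ℕ)
    (hsm : FlatCA.SmoothRelDim n R D) (hgi : FlatCA.GeomIrredFibres R D) (g : R) (h : D)
    [Algebra (Localization.Away g) (Localization.Away h)]
    [IsScalarTower R (Localization.Away g) (Localization.Away h)]
    (hsurj : ∀ P : PrimeSpectrum R, g ∉ P.asIdeal →
      ∃ Q : PrimeSpectrum D, h ∉ Q.asIdeal ∧ PrimeSpectrum.comap (algebraMap R D) Q = P) :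
    FlatCA.SmoothRelDim n (Localization.Away g) (Localization.Away h) ∧
      FlatCA.GeomIrredFibres (Localization.Away g) (Localization.Away h) := by
  haveI := hsm
  haveI := hgi
  let i : Spec (CommRingCat.of (Localization.Away g)) ⟶ Spec (CommRingCat.of R) :=
    Spec.map (CommRingCat.ofHom (algebraMap R (Localization.Away g)))
  let j : Spec (CommRingCat.of (Localization.Away h)) ⟶ Spec (CommRingCat.of D) :=
    Spec.map (CommRingCat.ofHom (algebraMap D (Localization.Away h)))
  let f : Spec (CommRingCat.of D) ⟶ Spec (CommRingCat.of R) := Spec.map (CommRingCat.ofHom (algebraMap R D))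
  let f' : Spec (CommRingCat.of (Localization.Away h)) ⟶ Spec (CommRingCat.of (Localization.Away g)) :=
    Spec.map (CommRingCat.ofHom (algebraMap (Localization.Away g) (Localization.Away h)))
  haveI : IsOpenImmersion i := IsOpenImmersion.of_isLocalization g
  haveI : IsOpenImmersion j := IsOpenImmersion.of_isLocalization h
  have hcomm : f' ≫ i = j ≫ f := by
    simp only [i, j, f, f', ← Spec.map_comp, ← CommRingCat.ofHom_comp]
    rw [← IsScalarTower.algebraMap_eq R (Localization.Away g) (Localization.Away h),
      ← IsScalarTower.algebraMap_eq R D (Localization.Away h)]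
  haveI : SmoothOfRelativeDimension n (f' ≫ i) := by
    rw [hcomm]
    have h0 : SmoothOfRelativeDimension (0 + n) (j ≫ f) := inferInstance
    rwa [Nat.zero_add] at h0
  refine ⟨?_, ?_⟩
  · haveI := smoothOfRelativeDimension_isStableUnderBaseChange.{u} n
    exact MorphismProperty.of_isPullback (P := @SmoothOfRelativeDimension n)
      (IsPullback.of_horiz_isIso_mono (snd := f') (f := f' ≫ i) (g := i) (fst := 𝟙 _) ⟨by simp⟩)
      ‹SmoothOfRelativeDimension n (f' ≫ i)›
  · haveI : Surjective f' := ⟨fun P => by
      let P0 := PrimeSpectrum.comap (algebraMap R (Localization.Away g)) P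
      have hg : g ∉ P0.asIdeal := fun hg =>
        P.2.ne_top (Ideal.eq_top_of_isUnit_mem _ hg (IsLocalization.Away.algebraMap_isUnit g))
      obtain ⟨Q, hQh, hQ⟩ := hsurj P0 hg
      obtain ⟨Q', rfl⟩ : Q ∈ Set.range (PrimeSpectrum.comap (algebraMap D (Localization.Away h))) :=
        (PrimeSpectrum.localization_away_comap_range _ h).ge hQh
      refine ⟨Q', PrimeSpectrum.localization_comap_injective (Localization.Away g) (.powers g) ?_⟩
      exact (congrArg (fun φ : Spec (CommRingCat.of (Localization.Away h)) ⟶ Spec (CommRingCat.of R) => φ.base Q') hcomm).trans hQ⟩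
    refine ⟨fun K _ y P fst snd hP => ?_⟩
    have hbig : IsPullback (pullback.fst f (y ≫ i)) (pullback.snd f (y ≫ i)) f (y ≫ i) := .of_hasPullback _ _
    haveI : IrreducibleSpace (pullback f (y ≫ i) : Scheme.{u}) :=
      hgi.geometrically_irreducibleSpace (y := y ≫ i) _ _ hbig
    let φ : P ⟶ pullback f (y ≫ i) := pullback.lift (fst ≫ j) snd
      (by rw [Category.assoc, ← hcomm, hP.w_assoc])
    have hφ : IsPullback φ fst (pullback.fst f (y ≫ i)) j := by
      refine IsPullback.of_right (h₁₂ := pullback.snd f (y ≫ i)) (v₁₃ := y ≫ i) (h₂₂ := f) ?_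
        (pullback.lift_fst _ _ _) hbig.flip
      rw [pullback.lift_snd]
      have := hP.flip.paste_vert (IsPullback.of_horiz_isIso_mono (snd := f') (f := f' ≫ i) (g := i) (fst := 𝟙 _) ⟨by simp⟩).flip
      rw [hcomm] at this
      simpa using this
    haveI : IsOpenImmersion φ := MorphismProperty.of_isPullback hφ.flip ‹IsOpenImmersion j›
    haveI : Surjective snd := MorphismProperty.of_isPullback hP ‹Surjective f'›
    haveI : Nonempty P := ⟨(snd.surjective (IsLocalRing.closedPoint K)).choose⟩
    exact φ.isOpenEmbedding.irreducibleSpace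

/-- Residue fields are unchanged by localisation. -/
theorem purelyTranscendental_away {R R' D D' : Type u} [CommRing R] [CommRing R'] [CommRing D] [CommRing D']
    [Algebra R R'] [Algebra R D] [Algebra R' D'] [Algebra R D'] [Algebra D D'] [IsScalarTower R R' D']
    [IsScalarTower R D D'] (M : Submonoid R) [IsLocalization M R'] (M' : Submonoid D) [IsLocalization M' D']
    (p : Ideal R) [p.IsPrime] (p' : Ideal R') [p'.IsPrime] [hp : p'.LiesOver p]
    (y : Ideal D) [y.IsPrime] [y.LiesOver p] (Q : Ideal D') [Q.IsPrime] [hQy : Q.LiesOver y]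
    [hQp : Q.LiesOver p'] (h : FlatCA.PurelyTranscendental p y) :
    FlatCA.PurelyTranscendental p' Q := by
  have hloc : ∀ (A A' : Type u) [CommRing A] [CommRing A'] [Algebra A A'] (M : Submonoid A)
      [IsLocalization M A'] (P : Ideal A) [P.IsPrime] (P' : Ideal A') [P'.IsPrime] [hP : P'.LiesOver P],
      Function.Surjective (Ideal.ResidueField.map P P' (algebraMap A A') hP.over) := by
    intro A A' _ _ _ M _ P _ P' _ hP
    let ι := Ideal.ResidueField.map P P' (algebraMap A A') hP.over
    have h1 : ∀ t : A', algebraMap A' P'.ResidueField t ∈ ι.fieldRange := fun t => by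
      obtain ⟨⟨a, m⟩, hat⟩ := IsLocalization.surj M t
      have hm : algebraMap A' P'.ResidueField (algebraMap A A' m) ≠ 0 :=
        ((IsLocalization.map_units A' m).map _).ne_zero
      have : algebraMap A' P'.ResidueField t =
          ι (algebraMap A P.ResidueField a) / ι (algebraMap A P.ResidueField m) := by
        rw [Ideal.ResidueField.map_algebraMap, Ideal.ResidueField.map_algebraMap, eq_div_iff hm, ← map_mul, hat]
      rw [this, ← map_div₀]
      exact ⟨_, rfl⟩
    intro x
    obtain ⟨a, b, -, rfl⟩ := IsFractionRing.div_surjective (A := A' ⧸ P') x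
    obtain ⟨a, rfl⟩ := Ideal.Quotient.mk_surjective a
    obtain ⟨b, rfl⟩ := Ideal.Quotient.mk_surjective b
    obtain ⟨x₁, hx₁⟩ := h1 a
    obtain ⟨x₂, hx₂⟩ := h1 b
    exact ⟨x₁ / x₂, by rw [map_div₀]; show ι x₁ / ι x₂ = _; rw [hx₁, hx₂]; rfl⟩
  obtain ⟨ι, x, hx, hadj⟩ := h
  let κ := p.ResidueField
  let κ' := p'.ResidueField
  let L := y.ResidueField
  let L' := Q.ResidueField
  letI aκL : Algebra κ L := (Ideal.ResidueField.mapₐ p y (Algebra.ofId R D) (Ideal.LiesOver.over)).toRingHom.toAlgebra
  letI aκκ : Algebra κ κ' := (Ideal.ResidueField.mapₐ p p' (Algebra.ofId R R') hp.over).toRingHom.toAlgebra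
  letI aκL' : Algebra κ' L' := (Ideal.ResidueField.mapₐ p' Q (Algebra.ofId R' D') hQp.over).toRingHom.toAlgebra
  letI : Algebra κ L' := ((algebraMap κ' L').comp (algebraMap κ κ')).toAlgebra
  haveI : IsScalarTower κ κ' L' := .of_algebraMap_eq fun _ => rfl
  let ιm := Ideal.ResidueField.map y Q (algebraMap D D') hQy.over
  have hcomm : ιm.comp (algebraMap κ L) = algebraMap κ L' := by
    apply Ideal.ResidueField.ringHom_ext
    ext r
    show ιm (Ideal.ResidueField.mapₐ p y (Algebra.ofId R D) _ (algebraMap R κ r)) =
      Ideal.ResidueField.mapₐ p' Q (Algebra.ofId R' D') hQp.over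
        (Ideal.ResidueField.mapₐ p p' (Algebra.ofId R R') hp.over (algebraMap R κ r))
    rw [AlgHom.commutes, AlgHom.commutes, IsScalarTower.algebraMap_apply R D y.ResidueField,
      IsScalarTower.algebraMap_apply R R' p'.ResidueField, AlgHom.commutes,
      IsScalarTower.algebraMap_apply R' D' Q.ResidueField]
    simp only [ιm, Ideal.ResidueField.map_algebraMap, ← IsScalarTower.algebraMap_apply R D D',
      ← IsScalarTower.algebraMap_apply R R' D']
  let e : L ≃ₐ[κ] L' := AlgEquiv.ofBijective
    { ιm with commutes' := fun r => congr($hcomm r) } ⟨RingHom.injective _, hloc D D' M' y Q⟩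
  have hκ : Function.Surjective (algebraMap κ κ') := by
    intro a
    obtain ⟨b, hb⟩ := hloc R R' M p p' a
    refine ⟨b, ?_⟩
    rw [← hb]
    refine DFunLike.congr_fun (Ideal.ResidueField.ringHom_ext (RingHom.ext fun r => ?_)) b
    show Ideal.ResidueField.mapₐ p p' (Algebra.ofId R R') hp.over (algebraMap R κ r) = _
    rw [AlgHom.commutes]
    exact (Ideal.ResidueField.map_algebraMap ..).symm
  haveI : Algebra.IsIntegral κ κ' := ⟨fun a => by
    obtain ⟨b, hb⟩ := hκ a
    rw [← hb]
    exact isIntegral_algebraMap (R := κ) (A := κ') (x := b)⟩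
  refine ⟨ι, e ∘ x, (Algebra.IsIntegral.isTranscendenceBasis_iff κ κ').mp (e.isTranscendenceBasis hx), ?_⟩
  refine eq_top_iff.mpr fun z _ => ?_
  obtain ⟨w, rfl⟩ := e.surjective z
  have hw : w ∈ IntermediateField.adjoin κ (Set.range x) := hadj ▸ IntermediateField.mem_top
  have hle : IntermediateField.adjoin κ (Set.range x) ≤
      ((IntermediateField.adjoin κ' (Set.range (e ∘ x))).restrictScalars κ).comap e.toAlgHom := by
    rw [IntermediateField.adjoin_le_iff]
    rintro _ ⟨i, rfl⟩
    exact IntermediateField.subset_adjoin κ' _ ⟨i, rfl⟩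
  exact hle hw

/-- Primes extended to a localisation away from an element outside. -/
theorem map_away {B : Type u} [CommRing B] (h : B) (P : Ideal B) [P.IsPrime] (hh : h ∉ P) :
    (P.map (algebraMap B (Localization.Away h))).IsPrime ∧
      (P.map (algebraMap B (Localization.Away h))).comap (algebraMap B (Localization.Away h)) = P := by
  have hd : Disjoint (Submonoid.powers h : Set B) P := by
    rw [Set.disjoint_left]
    rintro _ ⟨k, rfl⟩ hk
    exact hh (Ideal.IsPrime.mem_of_pow_mem ‹_› k hk)
  exact ⟨IsLocalization.isPrime_of_isPrime_disjoint _ _ P ‹_› hd,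
    IsLocalization.comap_map_of_isPrime_disjoint _ _ ‹_› hd⟩

set_option maxHeartbeats 800000 in
/-- A standard shrinking along `hX`, `hY` with the same image in `C`. -/
theorem main
    (R S : Type u) [CommRing R] [CommRing S] [Algebra R S] [Algebra.FiniteType R S]
    (N : Type u) [AddCommGroup N] [Module S N] [Module R N] [IsScalarTower R S N] [Module.Finite S N]
    (p : Ideal R) [p.IsPrime] (q : Ideal S) [q.IsPrime] [q.LiesOver p]
    (C D G : Type u) [CommRing C] [CommRing D] [Algebra S C] [Algebra R C] [IsScalarTower R S C]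
    [Algebra R D] [Algebra D C] [IsScalarTower R D C] [AddCommGroup G] [Module C G] [Module S G]
    [IsScalarTower S C G] (n : ℕ)
    (h : FlatCA.IsOneStepDevissage R S N p C D G n)
    (z : Ideal C) [z.IsPrime] (y : Ideal D) [y.IsPrime] [z.LiesOver q] [z.LiesOver y] [y.LiesOver p]
    (h1 : ∃ (ξ : PrimeSpectrum (p.Fiber S)) (hξ : ξ ∈ Module.support (p.Fiber S) (FlatCA.fiberMod p S N)),
      ξ.asIdeal = FlatCA.fiberIdeal p q ∧
      FlatMor.localDim (Module.support (p.Fiber S) (FlatCA.fiberMod p S N)) ⟨ξ, hξ⟩ = n)
    (h3 : ∀ (z₁ : Ideal C) [z₁.IsPrime], z₁.LiesOver y → z₁ = z)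
    (h4 : FlatCA.PurelyTranscendental p y)
    (g : R) (hg : g ∉ p) (hY : D) (hhY : hY ∉ y) (hX : S)
    (hgY : algebraMap R D g ∣ hY) (hgX : algebraMap R S g ∣ hX)
    (himg : algebraMap S C hX = algebraMap D C hY)
    (hsurj : ∀ P : PrimeSpectrum R, g ∉ P.asIdeal →
      ∃ Q : PrimeSpectrum D, hY ∉ Q.asIdeal ∧ PrimeSpectrum.comap (algebraMap R D) Q = P) :
    hX ∉ q ∧ algebraMap S C hX ∉ z ∧
      ∃ (_ : Algebra (Localization.Away g) (Localization.Away hX)) (_ : IsScalarTower R (Localization.Away g) (Localization.Away hX))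
        (_ : Algebra (Localization.Away g) (Localization.Away (algebraMap S C hX))) (_ : IsScalarTower R (Localization.Away g) (Localization.Away (algebraMap S C hX)))
        (_ : Algebra (Localization.Away g) (Localization.Away hY)) (_ : IsScalarTower R (Localization.Away g) (Localization.Away hY))
        (_ : Algebra (Localization.Away hX) (Localization.Away (algebraMap S C hX))) (_ : IsScalarTower S (Localization.Away hX) (Localization.Away (algebraMap S C hX)))
        (_ : IsScalarTower (Localization.Away g) (Localization.Away hX) (Localization.Away (algebraMap S C hX)))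
        (_ : Algebra (Localization.Away hY) (Localization.Away (algebraMap S C hX))) (_ : IsScalarTower D (Localization.Away hY) (Localization.Away (algebraMap S C hX)))
        (_ : IsScalarTower (Localization.Away g) (Localization.Away hY) (Localization.Away (algebraMap S C hX)))
        (_ : Module (Localization.Away g) (LocalizedModule (Submonoid.powers hX) N)) (_ : IsScalarTower (Localization.Away g) (Localization.Away hX) (LocalizedModule (Submonoid.powers hX) N))
        (_ : Module (Localization.Away hX) (LocalizedModule (Submonoid.powers (algebraMap S C hX)) G)) (_ : IsScalarTower (Localization.Away hX) (Localization.Away (algebraMap S C hX)) (LocalizedModule (Submonoid.powers (algebraMap S C hX)) G))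
        (_ : (Ideal.map (algebraMap R (Localization.Away g)) p).IsPrime) (_ : (Ideal.map (algebraMap D (Localization.Away hY)) y).IsPrime) (_ : (Ideal.map (algebraMap D (Localization.Away hY)) y).LiesOver (Ideal.map (algebraMap R (Localization.Away g)) p)),
        FlatCA.IsOneStepDevissage (Localization.Away g) (Localization.Away hX) (LocalizedModule (Submonoid.powers hX) N) (Ideal.map (algebraMap R (Localization.Away g)) p) (Localization.Away (algebraMap S C hX)) (Localization.Away hY) (LocalizedModule (Submonoid.powers (algebraMap S C hX)) G) n ∧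
        (∃ (ξ : PrimeSpectrum ((Ideal.map (algebraMap R (Localization.Away g)) p).Fiber (Localization.Away hX)))
            (hξ : ξ ∈ Module.support ((Ideal.map (algebraMap R (Localization.Away g)) p).Fiber (Localization.Away hX)) (FlatCA.fiberMod (Ideal.map (algebraMap R (Localization.Away g)) p) (Localization.Away hX) (LocalizedModule (Submonoid.powers hX) N))),
          ξ.asIdeal = FlatCA.fiberIdeal (Ideal.map (algebraMap R (Localization.Away g)) p) (Ideal.map (algebraMap S (Localization.Away hX)) q) ∧
          FlatMor.localDim (Module.support ((Ideal.map (algebraMap R (Localization.Away g)) p).Fiber (Localization.Away hX)) (FlatCA.fiberMod (Ideal.map (algebraMap R (Localization.Away g)) p) (Localization.Away hX) (LocalizedModule (Submonoid.powers hX) N))) ⟨ξ, hξ⟩ = n) ∧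
        (Ideal.map (algebraMap C (Localization.Away (algebraMap S C hX))) z).LiesOver (Ideal.map (algebraMap S (Localization.Away hX)) q) ∧ (Ideal.map (algebraMap C (Localization.Away (algebraMap S C hX))) z).LiesOver (Ideal.map (algebraMap D (Localization.Away hY)) y) ∧
        (∀ (z₂ : Ideal (Localization.Away (algebraMap S C hX))) [z₂.IsPrime], z₂.LiesOver (Ideal.map (algebraMap D (Localization.Away hY)) y) → z₂ = Ideal.map (algebraMap C (Localization.Away (algebraMap S C hX))) z) ∧
        FlatCA.PurelyTranscendental (Ideal.map (algebraMap R (Localization.Away g)) p) (Ideal.map (algebraMap D (Localization.Away hY)) y) := by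
  obtain ⟨⟨e⟩, hsurjC, hfp, hfin, hGfin, hsm, hgi, hdim⟩ := h
  have hzy : algebraMap S C hX ∉ z := by
    rw [himg]
    exact fun hh => hhY ((Ideal.mem_of_liesOver z y hY).mpr hh)
  have hXq : hX ∉ q := fun hh => hzy ((Ideal.mem_of_liesOver z q hX).mp hh)
  refine ⟨hXq, hzy, ?_⟩
  set hZ := algebraMap S C hX with hhZ
  let R' := Localization.Away g
  let S' := Localization.Away hX
  let C' := Localization.Away hZ
  let D' := Localization.Away hY
  have huX : IsUnit (algebraMap R S' g) := by
    rw [IsScalarTower.algebraMap_apply R S S']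
    obtain ⟨c, hc⟩ := hgX
    have : IsUnit (algebraMap S S' hX) := IsLocalization.Away.algebraMap_isUnit hX
    have h2 := congrArg (algebraMap S S') hc
    rw [map_mul] at h2
    exact isUnit_of_mul_isUnit_left (h2 ▸ this)
  have huY : IsUnit (algebraMap R D' g) := by
    rw [IsScalarTower.algebraMap_apply R D D']
    obtain ⟨c, hc⟩ := hgY
    have : IsUnit (algebraMap D D' hY) := IsLocalization.Away.algebraMap_isUnit hY
    have h2 := congrArg (algebraMap D D') hc
    rw [map_mul] at h2
    exact isUnit_of_mul_isUnit_left (h2 ▸ this)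
  have huSC : IsUnit (algebraMap S C' hX) := by
    rw [IsScalarTower.algebraMap_apply S C C']
    exact IsLocalization.Away.algebraMap_isUnit hZ
  have huDC : IsUnit (algebraMap D C' hY) := by
    rw [IsScalarTower.algebraMap_apply D C C', ← himg]
    exact IsLocalization.Away.algebraMap_isUnit hZ
  let sc : S' →+* C' := IsLocalization.Away.lift hX huSC
  let dc : D' →+* C' := IsLocalization.Away.lift hY huDC
  letI a1 : Algebra R' S' := (awayMap g hX huX).toAlgebra
  letI a3 : Algebra R' D' := (awayMap g hY huY).toAlgebra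
  haveI t1 : IsScalarTower R R' S' := IsScalarTower.of_algebraMap_eq' (awayMap_comp g hX huX).symm
  haveI t3 : IsScalarTower R R' D' := IsScalarTower.of_algebraMap_eq' (awayMap_comp g hY huY).symm
  letI a4 : Algebra S' C' := sc.toAlgebra
  letI a5 : Algebra D' C' := dc.toAlgebra
  haveI t4 : IsScalarTower S S' C' := IsScalarTower.of_algebraMap_eq' (IsLocalization.Away.lift_comp hX huSC).symm
  haveI t5 : IsScalarTower D D' C' := IsScalarTower.of_algebraMap_eq' (IsLocalization.Away.lift_comp hY huDC).symm
  letI a2 : Algebra R' C' := (sc.comp (algebraMap R' S')).toAlgebra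
  haveI t6 : IsScalarTower R' S' C' := IsScalarTower.of_algebraMap_eq' rfl
  haveI t2 : IsScalarTower R R' C' := IsScalarTower.of_algebraMap_eq fun r => by
    show algebraMap R C' r = sc (algebraMap R' S' (algebraMap R R' r))
    rw [← IsScalarTower.algebraMap_apply R R' S', IsScalarTower.algebraMap_apply R S S']
    show _ = algebraMap S' C' _
    rw [← IsScalarTower.algebraMap_apply S S' C', ← IsScalarTower.algebraMap_apply R S C']
  haveI t7 : IsScalarTower R' D' C' := IsScalarTower.of_algebraMap_eq' <| by
    refine IsLocalization.ringHom_ext (.powers g) (RingHom.ext fun r => ?_)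
    show algebraMap R' C' (algebraMap R R' r) = algebraMap D' C' (algebraMap R' D' (algebraMap R R' r))
    rw [← IsScalarTower.algebraMap_apply R R' C', ← IsScalarTower.algebraMap_apply R R' D',
      IsScalarTower.algebraMap_apply R D D', ← IsScalarTower.algebraMap_apply D D' C',
      ← IsScalarTower.algebraMap_apply R D C']
  let N' := LocalizedModule (Submonoid.powers hX) N
  let G' := LocalizedModule (Submonoid.powers hZ) G
  letI m1 : Module R' N' := Module.compHom N' (algebraMap R' S')
  haveI t8 : IsScalarTower R' S' N' := IsScalarTower.of_compHom R' S' N'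
  letI m2 : Module S' G' := Module.compHom G' (algebraMap S' C')
  haveI t9 : IsScalarTower S' C' G' := IsScalarTower.of_compHom S' C' G'
  haveI : IsScalarTower S S' G' := ⟨fun s x m => by
    show algebraMap S' C' (s • x) • m = s • algebraMap S' C' x • m
    rw [Algebra.smul_def, map_mul, ← IsScalarTower.algebraMap_apply S S' C', mul_smul,
      IsScalarTower.algebraMap_smul]⟩
  -- primes
  obtain ⟨hp'p, hp'c⟩ := map_away g p hg
  obtain ⟨hq'p, hq'c⟩ := map_away hX q hXq
  obtain ⟨hy'p, hy'c⟩ := map_away hY y hhY
  obtain ⟨hz'p, hz'c⟩ := map_away hZ z hzy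
  haveI := hp'p; haveI := hq'p; haveI := hy'p; haveI := hz'p
  haveI hy'l : (y.map (algebraMap D D')).LiesOver (p.map (algebraMap R R')) := ⟨by
    conv_rhs => rw [Ideal.under_def, ← IsLocalization.map_comap (.powers g) R'
      ((y.map (algebraMap D D')).comap (algebraMap R' D'))]
    congr 1
    rw [Ideal.under_def, Ideal.comap_comap, ← IsScalarTower.algebraMap_eq R R' D', IsScalarTower.algebraMap_eq R D D',
      ← Ideal.comap_comap, hy'c, ← Ideal.under_def]
    exact Ideal.LiesOver.over⟩
  haveI : (p.map (algebraMap R R')).LiesOver p := ⟨hp'c.symm⟩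
  haveI : (y.map (algebraMap D D')).LiesOver y := ⟨hy'c.symm⟩
  refine ⟨a1, t1, a2, t2, a3, t3, a4, t4, t6, a5, t5, t7, m1, t8, m2, t9, hp'p, hy'p, hy'l, ?_⟩
  let f : N →ₗ[S] G' := ((LocalizedModule.mkLinearMap (Submonoid.powers hZ) G).restrictScalars S).comp e.toLinearMap
  haveI : IsLocalizedModule (Submonoid.powers hX) f := by
    have hsm : ∀ (k : ℕ) (m : G), hX ^ k • m = hZ ^ k • m := fun k m => by
      rw [← IsScalarTower.algebraMap_smul C (hX ^ k) m, map_pow]
    refine ⟨?_, ?_, ?_⟩
    · rintro ⟨_, k, rfl⟩
      refine (Module.End.isUnit_iff _).mpr ?_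
      have : IsUnit (algebraMap S C' (hX ^ k)) := by rw [map_pow]; exact huSC.pow k
      simp only [Module.algebraMap_end_apply]
      have hb : Function.Bijective fun m : G' => algebraMap S C' (hX ^ k) • m := this.smul_bijective
      simp only [IsScalarTower.algebraMap_smul] at hb
      exact hb
    · intro m
      induction m using LocalizedModule.induction_on with
      | h a s =>
        obtain ⟨k, hk⟩ := s.2
        refine ⟨⟨e.symm a, ⟨hX ^ k, k, rfl⟩⟩, ?_⟩
        show hX ^ k • LocalizedModule.mk a s = LocalizedModule.mk (e (e.symm a)) 1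
        rw [e.apply_symm_apply, ← IsScalarTower.algebraMap_smul C (hX ^ k), map_pow, LocalizedModule.smul'_mk]
        rw [show s = ⟨hZ ^ k, k, rfl⟩ from Subtype.ext hk.symm]
        exact LocalizedModule.mk_eq.mpr ⟨1, by simp [Submonoid.smul_def, hhZ]⟩
    · intro a b hab
      obtain ⟨⟨_, k, rfl⟩, hk⟩ := LocalizedModule.mk_eq.mp hab
      refine ⟨⟨hX ^ k, k, rfl⟩, e.injective ?_⟩
      simp only [Submonoid.smul_def, map_smul, hsm]
      simpa [Submonoid.smul_def] using hk
  let ψ : N' ≃ₗ[S] G' := IsLocalizedModule.iso (Submonoid.powers hX) f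
  refine ⟨⟨⟨ψ.extendScalarsOfIsLocalization (Submonoid.powers hX) S'⟩, ?_, ?_, ?_, inferInstance,
    (smooth_geomIrred_away n hsm hgi g hY hsurj).1, (smooth_geomIrred_away n hsm hgi g hY hsurj).2, ?_⟩,
    ?_, ?_, ?_, ?_, purelyTranscendental_away (.powers g) (.powers hY) p _ y _ h4⟩
  · intro x
    obtain ⟨⟨c, ⟨_, k, rfl⟩⟩, hx⟩ := IsLocalization.surj (Submonoid.powers hZ) x
    obtain ⟨s, rfl⟩ := hsurjC c
    refine ⟨IsLocalization.mk' S' s (⟨hX ^ k, k, rfl⟩ : Submonoid.powers hX), (huSC.pow k).mul_left_injective ?_⟩
    show _ * algebraMap S C' hX ^ k = x * _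
    rw [← map_pow, IsScalarTower.algebraMap_apply S S' C', ← map_mul, IsLocalization.mk'_spec,
      ← IsScalarTower.algebraMap_apply S S' C']
    refine Eq.trans ?_ (hx.symm.trans ?_)
    · exact IsScalarTower.algebraMap_apply S C C' s
    · rw [← IsScalarTower.algebraMap_apply S S' C', map_pow, IsScalarTower.algebraMap_apply S C C', map_pow]
      exact congrArg (x * ·) (map_pow _ _ _).symm
  · haveI := hfp
    haveI : Algebra.FinitePresentation C C' := IsLocalization.Away.finitePresentation hZ
    haveI : Algebra.FinitePresentation S C' := Algebra.FinitePresentation.trans S C C'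
    haveI : Algebra.FinitePresentation S S' := IsLocalization.Away.finitePresentation hX
    exact Algebra.FinitePresentation.of_restrict_scalars_finitePresentation S S' C'
  · haveI := hfin
    haveI : IsLocalization (Algebra.algebraMapSubmonoid C (Submonoid.powers hY)) C' := by
      rw [Algebra.algebraMapSubmonoid, Submonoid.map_powers, ← himg]
      infer_instance
    exact Module.Finite.of_isLocalization D C (Rₚ := D') (Sₚ := C') (Submonoid.powers hY)
  · exact ((fibreDim_away g hX p _ hp'c q (Ideal.LiesOver.over (P := q) (p := p)).symm _ hq'c N N'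
      (LocalizedModule.mkLinearMap (Submonoid.powers hX) N)
      (IsLocalizedModule.isBaseChange (Submonoid.powers hX) S' _) n hdim h1)).1
  · exact ((fibreDim_away g hX p _ hp'c q (Ideal.LiesOver.over (P := q) (p := p)).symm _ hq'c N N'
      (LocalizedModule.mkLinearMap (Submonoid.powers hX) N)
      (IsLocalizedModule.isBaseChange (Submonoid.powers hX) S' _) n hdim h1)).2
  · refine ⟨?_⟩
    conv_rhs => rw [Ideal.under_def, ← IsLocalization.map_comap (.powers hX) S'
      ((z.map (algebraMap C C')).comap (algebraMap S' C'))]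
    congr 1
    rw [Ideal.under_def, Ideal.comap_comap, ← IsScalarTower.algebraMap_eq S S' C', IsScalarTower.algebraMap_eq S C C',
      ← Ideal.comap_comap, hz'c, ← Ideal.under_def]
    exact Ideal.LiesOver.over
  · refine ⟨?_⟩
    conv_rhs => rw [Ideal.under_def, ← IsLocalization.map_comap (.powers hY) D'
      ((z.map (algebraMap C C')).comap (algebraMap D' C'))]
    congr 1
    rw [Ideal.under_def, Ideal.comap_comap, ← IsScalarTower.algebraMap_eq D D' C', IsScalarTower.algebraMap_eq D C C',
      ← Ideal.comap_comap, hz'c, ← Ideal.under_def]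
    exact Ideal.LiesOver.over
  · intro z₂ _ hz₂
    rw [← IsLocalization.map_comap (.powers hZ) C' z₂]
    congr 1
    refine h3 _ ⟨?_⟩
    rw [Ideal.under_def, Ideal.under_def, Ideal.comap_comap, ← IsScalarTower.algebraMap_eq D C C',
      IsScalarTower.algebraMap_eq D D' C', ← Ideal.comap_comap]
    exact hy'c.symm.trans (congrArg (Ideal.comap (algebraMap D D')) hz₂.over)

end Groth.Agent.H69.Shrink
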